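import Groth.Prelude.Def_AlgSp3
import Groth.Agent.Lib.Helper5.AlgSp.Basic
import Groth.Agent.Lib.Helper5.AlgSp.ZarLocalRep
import Groth.Agent.Lib.Helper5.AlgSp.RepOver
import Mathlib
set_option autoImplicit false
universe u
open CategoryTheory CategoryTheory.Limits AlgebraicGeometry

namespace Groth.Agent.H5.AlgSp.Lim
open _root_.AlgSp Groth.Agent.H5.AlgSp

/-- A small diagram of affine schemes has a limit in `Scheme`, and the limit is affine. -/
lemma exists_isLimit_scheme_of_isAffine {J : Type u} [SmallCategory J] (F : J ⥤ Scheme.{u})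
    (hF : ∀ j, IsAffine (F.obj j)) :
    ∃ c : Cone F, Nonempty (IsLimit c) ∧ IsAffine c.pt := by
  let F' : J ⥤ AffineScheme.{u} :=
    ObjectProperty.lift Scheme.Spec.essImage F (fun j => essImage_Spec.2 (hF j))
  have h := isLimitOfPreserves AffineScheme.forgetToScheme (limit.isLimit F')
  exact ⟨AffineScheme.forgetToScheme.mapCone (limit.cone F'), ⟨h⟩,
    inferInstanceAs (IsAffine (limit F').obj)⟩

/-- A small connected diagram of affine schemes over `S` has a limit in `Over S`, and the limit
is affine. -/
lemma exists_isLimit_over_of_isAffine {S : Scheme.{u}} {J : Type u} [SmallCategory J]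
    [IsConnected J] (E : J ⥤ Over S) (hE : ∀ j, IsAffine (E.obj j).left) :
    ∃ c : Cone E, Nonempty (IsLimit c) ∧ IsAffine c.pt.left := by
  obtain ⟨c₀, ⟨hc₀⟩, hA⟩ := exists_isLimit_scheme_of_isAffine (E ⋙ Over.forget S) hE
  refine ⟨liftLimit hc₀, ⟨liftedLimitIsLimit hc₀⟩, ?_⟩
  have e : (liftLimit hc₀).pt.left ≅ c₀.pt :=
    (Cone.forget _).mapIso (liftedLimitMapsToOriginal hc₀)
  exact IsAffine.of_isIso e.hom

variable {S : Scheme.{u}}

/-- In a connected diagram over a base `B`, the composite `lim → D j → B` does not depend on `j`. -/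
lemma π_comp_const {J : Type u} [SmallCategory J] [IsConnected J] (D : J ⥤ Sp S) (B : Sp S)
    (t : D ⟶ (Functor.const J).obj B) (c : Cone D) (j k : J) :
    c.π.app j ≫ t.app j = c.π.app k ≫ t.app k := by
  refine constant_of_preserves_morphisms (fun j => c.π.app j ≫ t.app j) (fun a b φ => ?_) j k
  have h1 := c.w φ
  have h2 := t.naturality φ
  simp only [Functor.const_obj_obj, Functor.const_obj_map, Category.comp_id] at h2
  rw [← h1, Category.assoc, h2]

/-- **Limits of affine morphisms are affine.**  For a small connected diagram of sheaves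
`D j` affine over a sheaf `B`, the limit is affine over `B`. -/
theorem isAffineMor_limit_to_base {J : Type u} [SmallCategory J] [IsConnected J] (D : J ⥤ Sp S)
    (B : Sp S) (t : D ⟶ (Functor.const J).obj B) (ht : ∀ j, IsAffineMor (t.app j))
    (c : Cone D) (hc : IsLimit c) (j₀ : J) : IsAffineMor (c.π.app j₀ ≫ t.app j₀) := by
  intro T hT g
  choose W q f sq hW using fun j => ht j hT g
  -- transition maps
  have tw : ∀ {j k : J} (φ : j ⟶ k), (f j ≫ D.map φ) ≫ t.app k = (yon S).map (q j) ≫ g := by
    intro j k φ
    have h2 := t.naturality φ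
    simp only [Functor.const_obj_obj, Functor.const_obj_map, Category.comp_id] at h2
    rw [Category.assoc, h2]
    exact (sq j).w
  have key : ∀ {j k : J} (φ : j ⟶ k), ∃ w : W j ⟶ W k,
      w ≫ q k = q j ∧ (yon S).map w ≫ f k = f j ≫ D.map φ := by
    intro j k φ
    obtain ⟨w, hw⟩ := (yon S).map_surjective ((sq k).lift _ _ (tw φ))
    refine ⟨w, ?_, ?_⟩
    · apply (yon S).map_injective
      rw [Functor.map_comp, hw, (sq k).lift_snd]
    · rw [hw, (sq k).lift_fst]
  have uniq : ∀ {k : J} {X : Over S} (a b : X ⟶ W k), a ≫ q k = b ≫ q k →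
      (yon S).map a ≫ f k = (yon S).map b ≫ f k → a = b := by
    intro k X a b h1 h2
    apply (yon S).map_injective
    apply (sq k).hom_ext h2
    rw [← Functor.map_comp, ← Functor.map_comp, h1]
  choose w hw1 hw2 using @key
  let E : J ⥤ Over S :=
    { obj := W
      map := fun φ => w φ
      map_id := fun j => by
        apply uniq
        · rw [hw1, Category.id_comp]
        · rw [hw2, D.map_id, Category.comp_id]
          erw [(yon S).map_id, Category.id_comp]
      map_comp := fun {i j k} φ ψ => by
        apply uniq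
        · rw [hw1, Category.assoc, hw1, hw1]
        · rw [hw2, (yon S).map_comp, Category.assoc, hw2 ψ, ← Category.assoc, hw2 φ, Category.assoc,
            D.map_comp] }
  obtain ⟨cE, ⟨hcE⟩, hA⟩ := exists_isLimit_over_of_isAffine E hW
  -- the map to the limit
  let s : Cone D :=
    { pt := (yon S).obj cE.pt
      π := { app := fun j => (yon S).map (cE.π.app j) ≫ f j
             naturality := fun j k φ => by
              have h1 : cE.π.app j ≫ w φ = cE.π.app k := cE.w φ
              simp only [Functor.const_obj_obj, Functor.const_obj_map, Category.id_comp]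
              rw [Category.assoc, ← hw2, ← Category.assoc, ← Functor.map_comp, h1] } }
  have hqconst : ∀ j, cE.π.app j ≫ q j = cE.π.app j₀ ≫ q j₀ := by
    intro j
    refine constant_of_preserves_morphisms (fun j => cE.π.app j ≫ q j) (fun a b φ => ?_) j j₀
    have h1 : cE.π.app a ≫ w φ = cE.π.app b := cE.w φ
    change cE.π.app a ≫ q a = cE.π.app b ≫ q b
    rw [← h1, Category.assoc, hw1]
  refine ⟨cE.pt, cE.π.app j₀ ≫ q j₀, hc.lift s, ?_, hA⟩
  have hlift : ∀ j, hc.lift s ≫ c.π.app j = (yon S).map (cE.π.app j) ≫ f j := fun j => hc.fac s j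
  apply isPullback_of_yon
  · rw [← Category.assoc, hlift, Category.assoc, (sq j₀).w, Functor.map_comp, Category.assoc]
  · intro T' x y hxy
    have hxy' : ∀ j, (x ≫ c.π.app j) ≫ t.app j = y ≫ g := by
      intro j
      rw [Category.assoc, π_comp_const D B t c j j₀]
      exact hxy
    -- components
    have hz : ∀ j, ∃ ζ : T' ⟶ W j, (yon S).map ζ ≫ f j = x ≫ c.π.app j ∧
        (yon S).map (ζ ≫ q j) = y := by
      intro j
      obtain ⟨ζ, hζ⟩ := (yon S).map_surjective ((sq j).lift _ _ (hxy' j))
      refine ⟨ζ, ?_, ?_⟩
      · rw [hζ, (sq j).lift_fst]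
      · rw [Functor.map_comp, hζ, (sq j).lift_snd]
    choose ζ hζ1 hζ2 using hz
    let sT : Cone E :=
      { pt := T'
        π := { app := ζ
               naturality := fun j k φ => by
                simp only [Functor.const_obj_obj, Functor.const_obj_map, Category.id_comp]
                change ζ k = ζ j ≫ w φ
                apply uniq
                · apply (yon S).map_injective
                  rw [hζ2, Category.assoc, hw1, hζ2]
                · rw [hζ1, Functor.map_comp, Category.assoc, hw2, ← Category.assoc, hζ1,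
                    Category.assoc, c.w] } }
    have hfac : ∀ j, hcE.lift sT ≫ cE.π.app j = ζ j := fun j => hcE.fac sT j
    refine ⟨(yon S).map (hcE.lift sT), ⟨?_, ?_⟩, ?_⟩
    · apply hc.hom_ext
      intro j
      rw [Category.assoc, hlift, ← Category.assoc, ← Functor.map_comp, hfac, hζ1]
    · rw [← Functor.map_comp, ← Category.assoc, hfac, hζ2]
    · rintro z ⟨hz1, hz2⟩
      obtain ⟨ζ', rfl⟩ := (yon S).map_surjective z
      congr 1
      apply hcE.hom_ext
      intro j
      rw [hfac]
      apply uniq
      · apply (yon S).map_injective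
        rw [hζ2, Category.assoc, hqconst, ← Category.assoc, ← hz2, ← Functor.map_comp,
          Category.assoc]
      · rw [hζ1, ← hz1, Category.assoc, hlift, ← Category.assoc, ← Functor.map_comp]

end Groth.Agent.H5.AlgSp.Lim

namespace Groth.Agent.H5.AlgSp.Lim
open _root_.AlgSp Groth.Agent.H5.AlgSp

variable {S : Scheme.{u}} {I : Type u} [SmallCategory I] [IsCofiltered I]

/-- The projections of a cofiltered limit of sheaves with affine transition maps are affine. -/
theorem isAffineMor_π_app (D : I ⥤ Sp S) (hDa : ∀ (i j : I) (φ : i ⟶ j), IsAffineMor (D.map φ))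
    (c : Cone D) (hc : IsLimit c) (i : I) : IsAffineMor (c.π.app i) := by
  have : IsConnected (Over i) := IsFiltered.isConnected (Over i)
  let t : Over.forget i ⋙ D ⟶ (Functor.const (Over i)).obj (D.obj i) :=
    { app := fun j => D.map j.hom
      naturality := fun j k φ => by
        simp only [Functor.comp_obj, Over.forget_obj, Functor.const_obj_obj, Functor.comp_map,
          Over.forget_map, Functor.const_obj_map, Category.comp_id]
        rw [← D.map_comp, Over.w] }
  have hc' : IsLimit (c.whisker (Over.forget i)) :=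
    (Functor.Initial.isLimitWhiskerEquiv (Over.forget i) c).symm hc
  have := isAffineMor_limit_to_base (Over.forget i ⋙ D) (D.obj i) t (fun j => hDa _ _ _)
    (c.whisker (Over.forget i)) hc' (Over.mk (𝟙 i))
  simpa [t] using this

/-- A cofiltered limit (in fppf sheaves) of algebraic spaces with affine transition maps is an
algebraic space. -/
theorem isAlgSpace_limit (D : I ⥤ Sp S) (hD : ∀ i, IsAlgSpace (D.obj i))
    (hDa : ∀ (i j : I) (φ : i ⟶ j), IsAffineMor (D.map φ))
    (c : Cone D) (hc : IsLimit c) : IsAlgSpace c.pt := by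
  obtain ⟨i⟩ := IsCofiltered.nonempty (C := I)
  exact isAlgSpace_of_representable (hD i) (c.π.app i)
    (repWith_isAffineHom_of_isAffineMor (isAffineMor_π_app D hDa c hc i)).1

end Groth.Agent.H5.AlgSp.Lim
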