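import Groth.Agent.Lib.Helper5.AlgSp.Limits.PBSystem
import Mathlib
set_option autoImplicit false
universe u
open CategoryTheory CategoryTheory.Limits AlgebraicGeometry

namespace Groth.Agent.H5.AlgSp.Lim
open _root_.AlgSp Groth.Agent.H5.AlgSp

section Scheme

variable {J : Type u} [Category.{u} J] [IsCofiltered J] (D : J ⥤ Scheme.{u}) (c : Cone D)
  (hc : IsLimit c)

include hc in
/-- In a cofiltered limit of affine schemes along closed immersions, the projections are closed
immersions. -/
lemma isClosedImmersion_π_of_isAffine [∀ j, IsAffine (D.obj j)]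
    (hD : ∀ {i j : J} (f : i ⟶ j), IsClosedImmersion (D.map f)) (j : J) :
    IsClosedImmersion (c.π.app j) := by
  have : IsAffine c.pt := Scheme.isAffine_of_isLimit c hc
  refine IsClosedImmersion.of_surjective_of_isAffine (X := c.pt) (Y := D.obj j) (c.π.app j) ?_
  intro s
  obtain ⟨k, t, rfl⟩ := exists_appTop_π_eq_of_isAffine_of_isLimit D c hc s
  let l := IsCofiltered.min j k
  have := hD (IsCofiltered.minToLeft j k)
  obtain ⟨u, hu⟩ := (D.map (IsCofiltered.minToLeft j k)).app_surjective ⊤ (isAffineOpen_top _)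
    ((D.map (IsCofiltered.minToRight j k)).appTop t)
  refine ⟨u, ?_⟩
  have h1 : (c.π.app j).appTop = (D.map (IsCofiltered.minToLeft j k)).appTop ≫
      (c.π.app (IsCofiltered.min j k)).appTop := by
    rw [← Scheme.Hom.comp_appTop, c.w]
  have h2 : (c.π.app k).appTop = (D.map (IsCofiltered.minToRight j k)).appTop ≫
      (c.π.app (IsCofiltered.min j k)).appTop := by
    rw [← Scheme.Hom.comp_appTop, c.w]
  rw [h1, h2]
  change (c.π.app (IsCofiltered.min j k)).appTop ((D.map (IsCofiltered.minToLeft j k)).appTop u) = _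
  have hu' : (D.map (IsCofiltered.minToLeft j k)).appTop u =
      (D.map (IsCofiltered.minToRight j k)).appTop t := hu
  rw [hu']
  rfl

end Scheme

variable {S : Scheme.{u}} {I : Type u} [SmallCategory I] [IsCofiltered I]

theorem closedImmersion_limMap (DX DY : I ⥤ Sp S)
    (τ : DX ⟶ DY) (hτ : ∀ i, RepWith @IsClosedImmersion (τ.app i))
    (cX : Cone DX) (hcX : IsLimit cX) (cY : Cone DY) (hcY : IsLimit cY)
    (g : cX.pt ⟶ cY.pt) (hg : ∀ i, g ≫ cY.π.app i = cX.π.app i ≫ τ.app i) :
    RepWith @IsClosedImmersion g := by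
  have : IsConnected I := IsCofiltered.isConnected I
  apply repWith_of_forall_affine'
  intro Z hZ y P₀ fst snd sq
  -- the cone over `DY`
  let γ : (Functor.const I).obj ((yon S).obj Z) ⟶ DY :=
    { app := fun i => y ≫ cY.π.app i
      naturality := fun i j φ => by
        simp only [Functor.const_obj_obj, Functor.const_obj_map, Category.id_comp, Category.assoc,
          cY.w] }
  obtain ⟨P⟩ := PBSystem.exists_of_representable τ γ (fun i => (hτ i).1)
  have hq : ∀ i, IsClosedImmersion (P.q i).left := fun i => (hτ i).2 _ _ _ (P.sq i)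
  have hA : ∀ i, IsAffine (P.E.obj i).left := fun i => by
    have := hq i
    exact isAffine_of_isAffineHom (P.q i).left
  obtain ⟨cE, ⟨hcE⟩, hAE⟩ := exists_isLimit_over_of_isAffine P.E hA
  obtain ⟨i₀⟩ := IsCofiltered.nonempty (C := I)
  have sq' := P.isPullback_of_isLimit hcX (Bl := cY.pt) (fun i => cY.π.app i)
    (fun a b h => hcY.hom_ext h) g hg y (fun i => rfl) hcE i₀
  -- the projection is a closed immersion
  have hmap : ∀ {i j : I} (φ : i ⟶ j), IsClosedImmersion ((P.E ⋙ Over.forget S).map φ) := by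
    intro i j φ
    have h1 := hq i
    have h2 := hq j
    have h3 : (P.E.map φ).left ≫ (P.q j).left = (P.q i).left := by
      rw [← Over.comp_left, P.q_nat]
    rw [← h3] at h1
    exact IsClosedImmersion.of_comp_isClosedImmersion (P.E.map φ).left (P.q j).left
  have hA' : ∀ j, IsAffine ((P.E ⋙ Over.forget S).obj j) := hA
  have hπ : IsClosedImmersion (((Over.forget S).mapCone cE).π.app i₀) :=
    isClosedImmersion_π_of_isAffine (P.E ⋙ Over.forget S) _
      (isLimitOfPreserves (Over.forget S) hcE) hmap i₀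
  have hci : IsClosedImmersion (cE.π.app i₀ ≫ P.q i₀).left := by
    have := hq i₀
    rw [Over.comp_left]
    exact MorphismProperty.comp_mem _ _ _ hπ (hq i₀)
  -- transport to `snd`
  let e : P₀ ≅ (yon S).obj cE.pt := sq.isoIsPullback _ _ sq'
  have he : e.hom ≫ (yon S).map (cE.π.app i₀ ≫ P.q i₀) = snd := sq.isoIsPullback_hom_snd _ _ sq'
  rw [← he]
  exact (RepWith @IsClosedImmersion).comp_mem _ _
    ((RepWith @IsClosedImmersion).of_isIso e.hom)
    ((repWith_yon_map_iff @IsClosedImmersion _).2 hci)

end Groth.Agent.H5.AlgSp.Lim
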