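import Groth.Agent.Lib.Helper5.AlgSp.Limits.EvClosedImmSp
import Groth.Agent.Lib.Helper5.AlgSp.ProdSp
import Groth.Agent.Lib.Helper5.Lim.DescendProps
import Mathlib
set_option autoImplicit false
universe u
open CategoryTheory CategoryTheory.Limits AlgebraicGeometry

namespace Groth.Agent.H5.AlgSp.Lim
open _root_.AlgSp Groth.Agent.H5.AlgSp Groth.Agent.H5.Lim

variable {S : Scheme.{u}}

/-- **Chart transfer.** Given a pullback square of sheaves, a chart diagram of the bottom arrow and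
a chart of the top-right corner which is the base change of the chart of the bottom-right corner,
the fibre product of schemes is a chart of the top-left corner, the base change of the chart of
the bottom-left corner. -/
theorem exists_chart_lift {X₀ Y₀ Xi Yi : Sp S} {f₀ : X₀ ⟶ Y₀} {fi : Xi ⟶ Yi} {pXi : Xi ⟶ X₀}
    {pYi : Yi ⟶ Y₀} (hXi : IsPullback pXi fi f₀ pYi)
    {U₀ V₀ Vi Ui : Over S} {u : (yon S).obj U₀ ⟶ X₀} {v : (yon S).obj V₀ ⟶ Y₀} {h₀ : U₀ ⟶ V₀}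
    (comm : u ≫ f₀ = (yon S).map h₀ ≫ v)
    {vi : (yon S).obj Vi ⟶ Yi} {q : Vi ⟶ V₀} (hVi : IsPullback vi ((yon S).map q) pYi v)
    {p₁ : Ui ⟶ U₀} {p₂ : Ui ⟶ Vi} (sqU : IsPullback p₁ p₂ h₀ q) :
    ∃ ui : (yon S).obj Ui ⟶ Xi, ui ≫ fi = (yon S).map p₂ ≫ vi ∧
      IsPullback ui ((yon S).map p₁) pXi u := by
  have sqY := sqU.map (yon S)
  have hw : ((yon S).map p₁ ≫ u) ≫ f₀ = ((yon S).map p₂ ≫ vi) ≫ pYi := by
    rw [Category.assoc, comm, ← Category.assoc, sqY.w, Category.assoc, Category.assoc, hVi.w]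
  refine ⟨hXi.lift _ _ hw, hXi.lift_snd _ _ hw, ?_⟩
  -- outer rectangle
  have outer : IsPullback ((yon S).map p₂ ≫ vi) ((yon S).map p₁) pYi ((yon S).map h₀ ≫ v) :=
    (sqY.paste_vert hVi.flip).flip
  rw [← comm] at outer
  have := IsPullback.of_right (h₁₁ := hXi.lift _ _ hw) (h₁₂ := fi) (h₂₁ := u) (h₂₂ := f₀)
    (v₁₁ := (yon S).map p₁) (v₁₂ := pXi) (v₁₃ := pYi)
    (by rw [hXi.lift_snd]; exact outer) (hXi.lift_fst _ _ hw) hXi.flip
  exact this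

variable {I : Type u} [SmallCategory I] [IsCofiltered I]
  {D : I ⥤ Sp S} {c : Cone D} {i₀ : I} {V₀ : Over S} {Y₀ : Sp S} {v : (yon S).obj V₀ ⟶ Y₀}
  {b₀ : Y₀ ⟶ D.obj i₀}

/-- The chart of a stage of the base change of the system to `Y₀`. -/
theorem ChartSystem.exists_stage_chart (CS : ChartSystem D c i₀ (v ≫ b₀)) (j : Over i₀)
    {Yi : Sp S} {pYi : Yi ⟶ Y₀} {qYi : Yi ⟶ D.obj j.left}
    (hYi : IsPullback pYi qYi b₀ (D.map j.hom)) :
    ∃ vi : (yon S).obj (CS.P.E.obj j) ⟶ Yi, vi ≫ qYi = CS.P.f j ∧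
      IsPullback vi ((yon S).map (CS.P.q j)) pYi v := by
  have hw : ((yon S).map (CS.P.q j) ≫ v) ≫ b₀ = CS.P.f j ≫ D.map j.hom := by
    rw [Category.assoc]; exact (CS.sq' j).w.symm
  refine ⟨hYi.lift _ _ hw, hYi.lift_snd _ _ hw, ?_⟩
  have := IsPullback.of_right (h₁₁ := hYi.lift _ _ hw) (h₁₂ := qYi) (h₂₁ := v) (h₂₂ := b₀)
    (v₁₁ := (yon S).map (CS.P.q j)) (v₁₂ := pYi) (v₁₃ := D.map j.hom)
    (by rw [hYi.lift_snd]; exact CS.sq' j) (hYi.lift_fst _ _ hw) hYi.flip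
  exact this

/-- The chart of the limit of the base change of the system to `Y₀`. -/
theorem ChartSystem.exists_limit_chart (CS : ChartSystem D c i₀ (v ≫ b₀))
    {Y : Sp S} {pY : Y ⟶ Y₀} {qY : Y ⟶ c.pt}
    (hY : IsPullback pY qY b₀ (c.π.app i₀)) :
    ∃ vW : (yon S).obj CS.cE.pt ⟶ Y, vW ≫ qY = CS.fst ∧
      IsPullback vW ((yon S).map CS.snd) pY v := by
  have hw : ((yon S).map CS.snd ≫ v) ≫ b₀ = CS.fst ≫ c.π.app i₀ := by
    rw [Category.assoc]; exact CS.sq.w.symm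
  refine ⟨hY.lift _ _ hw, hY.lift_snd _ _ hw, ?_⟩
  have := IsPullback.of_right (h₁₁ := hY.lift _ _ hw) (h₁₂ := qY) (h₂₁ := v) (h₂₂ := b₀)
    (v₁₁ := (yon S).map CS.snd) (v₁₂ := pY) (v₁₃ := c.π.app i₀)
    (by rw [hY.lift_snd]; exact CS.sq) (hY.lift_fst _ _ hw) hY.flip
  exact this

end Groth.Agent.H5.AlgSp.Lim
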