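import Groth.Agent.Lib.Helper5.AlgSp.Limits.DescLocP
import Mathlib
set_option autoImplicit false
universe u
open CategoryTheory CategoryTheory.Limits AlgebraicGeometry

namespace Groth.Agent.H5.AlgSp.Lim
open _root_.AlgSp Groth.Agent.H5.AlgSp Groth.Agent.H5.Lim Groth.Agent.H5.EtSrc

variable {S : Scheme.{u}}

/-- **Reduction to a scheme base.** Given a pullback square of sheaves, a chart `V₀` of the
bottom-right corner with base change `Vi`, and a chart `U₀` of `X₀ ×_{Y₀} V₀`: the base change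
of `Xi ⟶ Yi` to `Vi` is the base change of `X₀ ×_{Y₀} V₀ ⟶ V₀` and has the chart
`U₀ ×_{V₀} Vi`. -/
theorem exists_reduced_chart {X₀ Y₀ Xi Yi : Sp S} {f₀ : X₀ ⟶ Y₀} {fi : Xi ⟶ Yi} {pXi : Xi ⟶ X₀}
    {pYi : Yi ⟶ Y₀} (hXi : IsPullback pXi fi f₀ pYi)
    {V₀ Vi U₀ : Over S} {v : (yon S).obj V₀ ⟶ Y₀} {vi : (yon S).obj Vi ⟶ Yi} {q : Vi ⟶ V₀}
    (hVi : IsPullback vi ((yon S).map q) pYi v)
    {p : (yon S).obj U₀ ⟶ pullback f₀ v} {h₀ : U₀ ⟶ V₀}
    (hh₀ : p ≫ pullback.snd f₀ v = (yon S).map h₀) :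
    ∃ (a : pullback fi vi ⟶ pullback f₀ v)
      (pi : (yon S).obj (pullback h₀ q) ⟶ pullback fi vi),
      a ≫ pullback.fst f₀ v = pullback.fst fi vi ≫ pXi ∧
      IsPullback a (pullback.snd fi vi) (pullback.snd f₀ v) ((yon S).map q) ∧
      IsPullback pi ((yon S).map (pullback.fst h₀ q)) a p ∧
      pi ≫ pullback.snd fi vi = (yon S).map (pullback.snd h₀ q) := by
  have hw : (pullback.fst fi vi ≫ pXi) ≫ f₀ = (pullback.snd fi vi ≫ (yon S).map q) ≫ v := by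
    rw [Category.assoc, hXi.w, ← Category.assoc, pullback.condition, Category.assoc, hVi.w,
      Category.assoc]
  have sq₀ := IsPullback.of_hasPullback f₀ v
  have sqi := IsPullback.of_hasPullback fi vi
  -- the outer rectangle
  have outer : IsPullback (pullback.snd fi vi) (pullback.fst fi vi ≫ pXi)
      ((yon S).map q ≫ v) f₀ := by
    rw [← hVi.w]
    exact sqi.flip.paste_vert hXi.flip
  have ha : IsPullback (pullback.snd fi vi) (sq₀.lift _ _ hw) ((yon S).map q)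
      (pullback.snd f₀ v) :=
    IsPullback.of_bot (by rw [sq₀.lift_fst]; exact outer) (sq₀.lift_snd _ _ hw).symm sq₀.flip
  have hid : IsPullback (𝟙 ((yon S).obj Vi)) ((yon S).map q) ((yon S).map q)
      (𝟙 ((yon S).obj V₀)) := IsPullback.of_horiz_isIso ⟨by simp⟩
  obtain ⟨pi, h1, h2⟩ := exists_chart_lift (u := p) (v := 𝟙 _) (h₀ := h₀) ha.flip
    (by rw [hh₀, Category.comp_id]) hid (IsPullback.of_hasPullback h₀ q)
  exact ⟨sq₀.lift _ _ hw, pi, sq₀.lift_fst _ _ hw, ha.flip, h2, by rw [h1, Category.comp_id]⟩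

variable {I : Type u} [SmallCategory I] [IsCofiltered I]

/-- The chart data for the descent of properties of `f₀ : X₀ ⟶ Y₀` over a stage of a system. -/
structure DescCtx (D : I ⥤ Sp S) (c : Cone D) (i₀ : I) {X₀ Y₀ : Sp S} (f₀ : X₀ ⟶ Y₀)
    (b₀ : Y₀ ⟶ D.obj i₀) where
  V₀ : Over S
  v : (yon S).obj V₀ ⟶ Y₀
  U₀ : Over S
  p : (yon S).obj U₀ ⟶ pullback f₀ v
  h₀ : U₀ ⟶ V₀
  hV₀ : IsAffine V₀.left
  hve : RepWith @Etale v
  hvs : RepWith @Surjective v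
  hpe : RepWith @Etale p
  hps : RepWith @Surjective p
  hh₀ : p ≫ pullback.snd f₀ v = (yon S).map h₀
  hqc : QuasiCompact h₀.left
  hqs : QuasiSeparated h₀.left
  CS : ChartSystem D c i₀ (v ≫ b₀)

namespace DescCtx

variable {D : I ⥤ Sp S} {c : Cone D} {i₀ : I} {X₀ Y₀ : Sp S} {f₀ : X₀ ⟶ Y₀}
  {b₀ : Y₀ ⟶ D.obj i₀}

/-- Existence of chart data with affine charts, for quasi-compact `X₀`, `Y₀` with `Y₀`
quasi-separated. -/
theorem exists_of_qc [QuasiSeparatedSpace ↥S]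
    (hDa : ∀ (i j : I) (φ : i ⟶ j), IsAffineMor (D.map φ)) (hc : IsLimit c)
    (hXqc : IsQuasiCompactSp X₀) (hYqc : IsQuasiCompactSp Y₀) (hYqs : IsQuasiSeparatedSp Y₀) :
    Nonempty (DescCtx D c i₀ f₀ b₀) := by
  obtain ⟨V₀, v, U₀, p, h₀, hV₀, hve, hvs, hU₀, hpe, hps, hh₀⟩ :=
    exists_affine_chart_diagram f₀ hXqc hYqc hYqs
  obtain ⟨CS⟩ := ChartSystem.exists_of_isAffineMor D hDa c hc i₀ (v ≫ b₀)
  exact ⟨⟨V₀, v, U₀, p, h₀, hV₀, hve, hvs, hpe, hps, hh₀, inferInstance, inferInstance, CS⟩⟩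

variable (C : DescCtx D c i₀ f₀ b₀)

/-- The chart of `X₀`. -/
noncomputable abbrev u : (yon S).obj C.U₀ ⟶ X₀ := C.p ≫ pullback.fst f₀ C.v

lemma hue : RepWith @Etale C.u :=
  (RepWith @Etale).comp_mem _ _ C.hpe
    ((RepWith @Etale).of_isPullback (IsPullback.of_hasPullback f₀ C.v).flip C.hve)

lemma hus : RepWith @Surjective C.u :=
  (RepWith @Surjective).comp_mem _ _ C.hps
    ((RepWith @Surjective).of_isPullback (IsPullback.of_hasPullback f₀ C.v).flip C.hvs)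

lemma comm : C.u ≫ f₀ = (yon S).map C.h₀ ≫ C.v := by
  rw [Category.assoc, pullback.condition, ← Category.assoc, C.hh₀]

lemma prop_h₀ {Φ₀ : MorphismProperty Scheme.{u}} (hf₀ : LocP Φ₀ f₀) : Φ₀ C.h₀.left :=
  hf₀ _ _ C.h₀ C.hue C.hve C.comm

lemma isAffine_F (hDa : ∀ (i j : I) (φ : i ⟶ j), IsAffineMor (D.map φ)) (j : Over i₀) :
    IsAffine (C.CS.F.obj j) := by
  have := C.hV₀
  have : IsAffineHom (C.CS.P.q j).left := C.CS.isAffineHom_q hDa j
  change IsAffine (C.CS.P.E.obj j).left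
  exact isAffine_of_isAffineHom (C.CS.P.q j).left

/-- **Descent along the chart system.** -/
theorem descend (hDa : ∀ (i j : I) (φ : i ⟶ j), IsAffineMor (D.map φ))
    {P Φ₀ : MorphismProperty Scheme.{u}} [P.IsStableUnderBaseChange]
    [Φ₀.IsStableUnderBaseChange]
    (H : AffineSystemDescent P (Φ₀ ⊓ (@QuasiCompact ⊓ @QuasiSeparated)))
    (hf₀ : LocP Φ₀ f₀) (h : P (pullback.snd C.h₀ C.CS.snd).left) :
    ∃ j : Over i₀, ∀ (k : Over i₀) (_ : k ⟶ j), P (pullback.snd C.h₀ (C.CS.P.q k)).left := by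
  have : P.RespectsIso := MorphismProperty.IsStableUnderBaseChange.respectsIso
  have hA := C.isAffine_F hDa
  rw [prop_pullback_snd_left_iff (P := P)] at h
  let j₁ : Over i₀ := Over.mk (𝟙 i₀)
  have e1 : C.CS.snd.left = C.CS.cF.π.app j₁ ≫ (C.CS.P.q j₁).left := by
    rw [← C.CS.π_q j₁]; rfl
  rw [bc_congr (P := P) C.h₀.left e1] at h
  have hΦ : (Φ₀ ⊓ (@QuasiCompact ⊓ @QuasiSeparated)) C.h₀.left :=
    ⟨C.prop_h₀ hf₀, C.hqc, C.hqs⟩
  have : (Φ₀ ⊓ (@QuasiCompact ⊓ @QuasiSeparated)).IsStableUnderBaseChange := inferInstance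
  obtain ⟨j, hj⟩ := exists_bc_of_affineSystemDescent_over H C.CS.F C.CS.cF C.CS.hcF
    (fun j => (C.CS.P.q j).left)
    (fun {j k} φ => by
      change (C.CS.P.E.map φ).left ≫ (C.CS.P.q k).left = (C.CS.P.q j).left
      rw [← Over.comp_left, C.CS.P.q_nat])
    C.h₀.left hΦ j₁ h
  refine ⟨j, fun k ψ => ?_⟩
  rw [prop_pullback_snd_left_iff (P := P)]
  exact hj k ψ

section Charts

variable {Xi Yi : Sp S} {fi : Xi ⟶ Yi} {pXi : Xi ⟶ X₀} {pYi : Yi ⟶ Y₀}

/-- The charts at the limit. -/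
theorem exists_limit_charts {qY : Yi ⟶ c.pt} (hY : IsPullback pYi qY b₀ (c.π.app i₀))
    (hX : IsPullback pXi fi f₀ pYi) :
    ∃ (vW : (yon S).obj C.CS.cE.pt ⟶ Yi) (a : pullback fi vW ⟶ pullback f₀ C.v)
      (pW : (yon S).obj (pullback C.h₀ C.CS.snd) ⟶ pullback fi vW),
      RepWith @Etale vW ∧ RepWith @Surjective vW ∧ RepWith @Etale pW ∧ RepWith @Surjective pW ∧
      IsPullback a (pullback.snd fi vW) (pullback.snd f₀ C.v) ((yon S).map C.CS.snd) ∧
      IsPullback pW ((yon S).map (pullback.fst C.h₀ C.CS.snd)) a C.p ∧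
      pW ≫ pullback.snd fi vW = (yon S).map (pullback.snd C.h₀ C.CS.snd) := by
  obtain ⟨vW, -, sqW⟩ := C.CS.exists_limit_chart hY
  obtain ⟨a, pW, -, h2, h3, h4⟩ := exists_reduced_chart hX sqW C.hh₀
  exact ⟨vW, a, pW, (RepWith @Etale).of_isPullback sqW.flip C.hve,
    (RepWith @Surjective).of_isPullback sqW.flip C.hvs,
    (RepWith @Etale).of_isPullback h3.flip C.hpe,
    (RepWith @Surjective).of_isPullback h3.flip C.hps, h2, h3, h4⟩

/-- The charts at a stage. -/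
theorem exists_stage_charts (k : Over i₀) {qYi : Yi ⟶ D.obj k.left}
    (hYi : IsPullback pYi qYi b₀ (D.map k.hom)) (hXi : IsPullback pXi fi f₀ pYi) :
    ∃ (vi : (yon S).obj (C.CS.P.E.obj k) ⟶ Yi) (a : pullback fi vi ⟶ pullback f₀ C.v)
      (pi : (yon S).obj (pullback C.h₀ (C.CS.P.q k)) ⟶ pullback fi vi),
      RepWith @Etale vi ∧ RepWith @Surjective vi ∧ RepWith @Etale pi ∧ RepWith @Surjective pi ∧
      IsPullback a (pullback.snd fi vi) (pullback.snd f₀ C.v) ((yon S).map (C.CS.P.q k)) ∧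
      IsPullback pi ((yon S).map (pullback.fst C.h₀ (C.CS.P.q k))) a C.p ∧
      pi ≫ pullback.snd fi vi = (yon S).map (pullback.snd C.h₀ (C.CS.P.q k)) := by
  obtain ⟨vi, -, sqVi⟩ := C.CS.exists_stage_chart k hYi
  obtain ⟨a, pi, -, h2, h3, h4⟩ := exists_reduced_chart hXi sqVi C.hh₀
  exact ⟨vi, a, pi, (RepWith @Etale).of_isPullback sqVi.flip C.hve,
    (RepWith @Surjective).of_isPullback sqVi.flip C.hvs,
    (RepWith @Etale).of_isPullback h3.flip C.hpe,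
    (RepWith @Surjective).of_isPullback h3.flip C.hps, h2, h3, h4⟩

end Charts

end DescCtx

end Groth.Agent.H5.AlgSp.Lim
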