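import Groth.Agent.Lib.Helper5.AlgSp.Limits.DescCtx
import Groth.Agent.Lib.Helper5.Lim.DescendSurjective
import Mathlib
set_option autoImplicit false
universe u
open CategoryTheory CategoryTheory.Limits AlgebraicGeometry

namespace Groth.Agent.H5.AlgSp.Lim
open _root_.AlgSp Groth.Agent.H5.AlgSp Groth.Agent.H5.Lim Groth.Agent.H5.EtSrc

variable {S : Scheme.{u}} {I : Type u} [SmallCategory I] [IsCofiltered I]

lemma surjective_left_iff_points {T T' : Over S} (g : T ⟶ T') :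
    Surjective g.left ↔ Function.Surjective (Points.map ((yon S).map g)) := by
  rw [← repWith_surjective_iff_points (representable_yon_map g), repWith_yon_map_iff]

variable {D : I ⥤ Sp S} {c : Cone D} {i₀ : I} {X₀ Y₀ : Sp S} {f₀ : X₀ ⟶ Y₀}
  {b₀ : Y₀ ⟶ D.obj i₀}

/-- Descent of surjectivity, in terms of chart data. -/
theorem DescCtx.descend_isSurjectiveMor (C : DescCtx D c i₀ f₀ b₀)
    (hDa : ∀ (i j : I) (φ : i ⟶ j), IsAffineMor (D.map φ))
    {X Y : Sp S} {f : X ⟶ Y} {pY : Y ⟶ Y₀} {qY : Y ⟶ c.pt}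
    (hY : IsPullback pY qY b₀ (c.π.app i₀)) {pX : X ⟶ X₀} (hX : IsPullback pX f f₀ pY)
    (hf : IsSurjectiveMor f) (hf₀ : LocP @LocallyOfFinitePresentation f₀) :
    ∃ j : Over i₀, ∀ (k : Over i₀) (_ : k ⟶ j) (Xi Yi : Sp S) (fi : Xi ⟶ Yi) (pYi : Yi ⟶ Y₀)
      (qYi : Yi ⟶ D.obj k.left) (_ : IsPullback pYi qYi b₀ (D.map k.hom)) (pXi : Xi ⟶ X₀)
      (_ : IsPullback pXi fi f₀ pYi), IsSurjectiveMor fi := by
  obtain ⟨vW, a, pW, -, -, -, hpWs, -, -, hpW⟩ := C.exists_limit_charts hY hX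
  have h1 : IsSurjectiveMor (pullback.snd f vW) :=
    isSurjectiveMor_of_isPullback (IsPullback.of_hasPullback f vW) hf
  have h2 : Surjective (pullback.snd C.h₀ C.CS.snd).left := by
    rw [surjective_left_iff_points, ← hpW]
    intro y
    obtain ⟨x, rfl⟩ := h1 y
    obtain ⟨z, rfl⟩ := points_map_surjective_of_repWith hpWs x
    exact ⟨z, Points.map_comp _ _ _⟩
  obtain ⟨j, hj⟩ := C.descend hDa affineSystemDescent_surjective hf₀ h2
  refine ⟨j, fun k ψ Xi Yi fi pYi qYi hYi pXi hXi => ?_⟩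
  obtain ⟨vi, a, pi, -, hvis, -, -, -, -, hpi⟩ := C.exists_stage_charts k hYi hXi
  have h3 := (surjective_left_iff_points _).1 (hj k ψ)
  rw [← hpi] at h3
  intro y
  obtain ⟨t, rfl⟩ := points_map_surjective_of_repWith hvis y
  obtain ⟨z, rfl⟩ := h3 t
  refine ⟨Points.map (pullback.fst fi vi) (Points.map pi z), ?_⟩
  rw [← Points.map_comp, pullback.condition, Points.map_comp, Points.map_comp]

end Groth.Agent.H5.AlgSp.Lim
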