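import Groth.Agent.Lib.Helper5.AlgSp.Limits.EvIso
import Groth.Agent.Lib.Helper5.AlgSp.ProdSp
import Groth.Agent.Lib.Helper5.AlgSp.SepMor
import Groth.Agent.Lib.Helper5.AlgSp.LocPCalc
import Mathlib
set_option autoImplicit false
universe u
open CategoryTheory CategoryTheory.Limits AlgebraicGeometry

namespace Groth.Agent.H5.AlgSp.Lim

section Cat

variable {C : Type (u+2)} [Category.{u+1} C] [HasPullbacks C]

/-- The transition map between kernel pairs is a base change of the diagonal. -/
lemma isPullback_kernelPair_map {Y T T' : C} (a : Y ⟶ T) (i : T ⟶ T') (a' : Y ⟶ T')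
    (h : a ≫ i = a') :
    IsPullback (pullback.fst a a ≫ a)
      (pullback.map a a a' a' (𝟙 _) (𝟙 _) i (by simp [h]) (by simp [h]))
      (pullback.diagonal i)
      (pullback.map a' a' i i a a (𝟙 _) (by simp [h]) (by simp [h])) := by
  subst h
  exact pullback_map_diagonal_isPullback a a i

variable {I : Type u} [Category.{u} I] {D : I ⥤ C} (c : Cone D) {Y : C} (y : Y ⟶ c.pt)

set_option backward.isDefEq.respectTransparency false in
/-- The system of kernel pairs of `Y ⟶ X ⟶ X_i`. -/
@[simps]
noncomputable def kpDiagram : I ⥤ C where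
  obj i := pullback (y ≫ c.π.app i) (y ≫ c.π.app i)
  map {i j} φ := pullback.map _ _ _ _ (𝟙 Y) (𝟙 Y) (D.map φ) (by simp) (by simp)
  map_id i := by apply pullback.hom_ext <;> simp
  map_comp φ ψ := by apply pullback.hom_ext <;> simp

set_option backward.isDefEq.respectTransparency false in
/-- first projection -/
@[simps]
noncomputable def kpFst : kpDiagram c y ⟶ (Functor.const I).obj Y where
  app i := pullback.fst _ _
  naturality i j φ := by simp

set_option backward.isDefEq.respectTransparency false in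
/-- The cone of diagonals. -/
@[simps]
noncomputable def kpCone : Cone (kpDiagram c y) where
  pt := Y
  π :=
    { app := fun i => pullback.diagonal (y ≫ c.π.app i)
      naturality := fun i j φ => by apply pullback.hom_ext <;> simp }

set_option backward.isDefEq.respectTransparency false in
lemma kpCone_fst_eq [IsCofiltered I] (s : Cone (kpDiagram c y)) (i j : I) :
    s.π.app i ≫ pullback.fst _ _ = s.π.app j ≫ pullback.fst _ _ := by
  have key : ∀ {k l : I} (φ : k ⟶ l),
      s.π.app l ≫ pullback.fst (y ≫ c.π.app l) (y ≫ c.π.app l) =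
        s.π.app k ≫ pullback.fst (y ≫ c.π.app k) (y ≫ c.π.app k) := by
    intro k l φ
    rw [← s.w φ]
    simp
  rw [key (IsCofiltered.minToLeft i j), key (IsCofiltered.minToRight i j)]

set_option backward.isDefEq.respectTransparency false in
lemma kpCone_snd_eq [IsCofiltered I] (s : Cone (kpDiagram c y)) (i j : I) :
    s.π.app i ≫ pullback.snd _ _ = s.π.app j ≫ pullback.snd _ _ := by
  have key : ∀ {k l : I} (φ : k ⟶ l),
      s.π.app l ≫ pullback.snd (y ≫ c.π.app l) (y ≫ c.π.app l) =
        s.π.app k ≫ pullback.snd (y ≫ c.π.app k) (y ≫ c.π.app k) := by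
    intro k l φ
    rw [← s.w φ]
    simp
  rw [key (IsCofiltered.minToLeft i j), key (IsCofiltered.minToRight i j)]

lemma kpCone_fst_eq_snd [IsCofiltered I] (hc : IsLimit c) [Mono y] (s : Cone (kpDiagram c y))
    (j : I) : s.π.app j ≫ pullback.fst _ _ = s.π.app j ≫ pullback.snd _ _ := by
  rw [← cancel_mono y]
  apply hc.hom_ext
  intro i
  have h : (s.π.app j ≫ pullback.fst (y ≫ c.π.app j) (y ≫ c.π.app j)) ≫ (y ≫ c.π.app i) =
      (s.π.app j ≫ pullback.snd (y ≫ c.π.app j) (y ≫ c.π.app j)) ≫ (y ≫ c.π.app i) :=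
    calc _ = (s.π.app i ≫ pullback.fst (y ≫ c.π.app i) (y ≫ c.π.app i)) ≫ (y ≫ c.π.app i) := by
          rw [kpCone_fst_eq c y s j i]
      _ = s.π.app i ≫ (pullback.fst (y ≫ c.π.app i) (y ≫ c.π.app i) ≫ (y ≫ c.π.app i)) :=
          Category.assoc _ _ _
      _ = s.π.app i ≫ (pullback.snd (y ≫ c.π.app i) (y ≫ c.π.app i) ≫ (y ≫ c.π.app i)) :=
          congrArg (s.π.app i ≫ ·) pullback.condition
      _ = (s.π.app i ≫ pullback.snd (y ≫ c.π.app i) (y ≫ c.π.app i)) ≫ (y ≫ c.π.app i) :=
          (Category.assoc _ _ _).symm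
      _ = _ := by rw [kpCone_snd_eq c y s j i]
  simpa only [Category.assoc] using h

set_option backward.isDefEq.respectTransparency false in
/-- For a monomorphism `y`, the cone of diagonals is a limit cone. -/
noncomputable def isLimitKpCone [IsCofiltered I] (hc : IsLimit c) [Mono y] :
    IsLimit (kpCone c y) where
  lift s := s.π.app (Classical.choice IsCofiltered.nonempty) ≫ pullback.fst _ _
  fac s j := by
    apply pullback.hom_ext
    · simp only [kpCone_π_app, Category.assoc, pullback.diagonal_fst, Category.comp_id]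
      exact kpCone_fst_eq c y s _ _
    · simp only [kpCone_π_app, Category.assoc, pullback.diagonal_snd, Category.comp_id]
      rw [kpCone_fst_eq c y s _ j]
      exact kpCone_fst_eq_snd c y hc s j
  uniq s m hm := by
    rw [← hm]
    simp

end Cat

section Sp

open _root_.AlgSp Groth.Agent.H5.AlgSp Groth.Agent.H5.EtSrc

variable {S : Scheme.{u}}

theorem locP_id {P : MorphismProperty Scheme.{u}}
    (hP : (@Etale : MorphismProperty Scheme.{u}) ≤ P) (F : Sp S) : LocP P (𝟙 F) := by
  intro U V a b h ha hb comm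
  have : RepWith @Etale ((yon S).map h) :=
    repWith_etale_of_comp (by rw [← comm, Category.comp_id]; exact ha) hb
  exact hP _ _ _ ((repWith_yon_map_iff @Etale h).1 this)

theorem isSeparatedMor_of_isAffineMor {F G : Sp S} {f : F ⟶ G} (hf : IsAffineMor f) :
    IsSeparatedMor f := by
  have h := repWith_isAffineHom_of_isAffineMor hf
  exact (isSeparatedMor_iff_repWith h.rep).2
    (repWith_mono (fun _ _ g (_ : IsAffineHom g) => (inferInstance : IsSeparated g)) h)

variable [QuasiSeparatedSpace S] {I : Type u} [SmallCategory I] [IsCofiltered I]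

theorem eventually_mono_of_limit (B : Sp S) (hB : IsAlgSpace B) (D : I ⥤ Sp S)
    (hD : ∀ i, IsAlgSpace (D.obj i)) (t : D ⟶ (Functor.const I).obj B)
    (hDa : ∀ (i j : I) (φ : i ⟶ j), IsAffineMor (D.map φ))
    (c : Cone D) (hc : IsLimit c) (hqs : ∀ i, IsQuasiSeparatedSp (D.obj i))
    (Y : Sp S) (hY : IsAlgSpace Y) (hYqc : IsQuasiCompactSp Y) (y : Y ⟶ c.pt) [Mono y] (i₁ : I)
    (hYB : LocP @LocallyOfFiniteType (y ≫ c.π.app i₁ ≫ t.app i₁)) :
    ∃ i₀ : I, ∀ (i : I) (_ : i ⟶ i₀), Mono (y ≫ c.π.app i) := by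
  have hnat : ∀ {i j : I} (φ : i ⟶ j), D.map φ ≫ t.app j = t.app i := by
    intro i j φ
    simp
  have hπt : ∀ {i j : I} (φ : i ⟶ j), c.π.app j ≫ t.app j = c.π.app i ≫ t.app i := by
    intro i j φ
    rw [← c.w φ, Category.assoc, hnat]
  have hyt : ∀ i, y ≫ c.π.app i ≫ t.app i = y ≫ c.π.app i₁ ≫ t.app i₁ := by
    intro i
    rw [hπt (IsCofiltered.minToLeft i i₁), hπt (IsCofiltered.minToRight i i₁)]
  have hyi : ∀ i, LocP @LocallyOfFiniteType (y ≫ c.π.app i) := fun i =>
    locP_of_comp (Pc := ⊤) etale_le_lft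
      (fun u v h _ => have := h; locallyOfFiniteType_of_comp u v) hB
      (g := t.app i) (by rw [Category.assoc, hyt]; exact hYB) (fun _ _ _ _ _ _ _ _ => trivial)
  have hqcm : ∀ i, IsQuasiCompactMor (y ≫ c.π.app i) := fun i =>
    isQuasiCompactMor_of_isQuasiCompactSp hYqc (hqs i) _
  have h1 : ∀ (i j : I) (φ : i ⟶ j), RepWith @IsClosedImmersion ((kpDiagram c y).map φ) := by
    intro i j φ
    exact MorphismProperty.of_isPullback (P := RepWith @IsClosedImmersion)
      (isPullback_kernelPair_map (y ≫ c.π.app i) (D.map φ) (y ≫ c.π.app j) (by simp))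
      (isSeparatedMor_of_isAffineMor (hDa i j φ))
  have h2 : ∀ i, IsQuasiCompactSp ((kpDiagram c y).obj i) := by
    intro i
    exact hqcm i hY hYqc (y ≫ c.π.app i) _ _ (IsPullback.of_hasPullback _ _)
  have h3 : ∀ i, LocP @LocallyOfFiniteType ((kpFst c y).app i) := by
    intro i
    exact locP_of_isPullback etale_le_lft (IsPullback.of_hasPullback _ _).flip hY (hD i) hY
      (hyi i)
  have h4 : LocP @LocallyOfFinitePresentation ((kpCone c y).π.app i₁ ≫ (kpFst c y).app i₁) := by
    have : (kpCone c y).π.app i₁ ≫ (kpFst c y).app i₁ = 𝟙 Y := pullback.diagonal_fst _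
    rw [this]
    exact locP_id etale_le_lfp Y
  obtain ⟨i₀, h⟩ := eventually_isIso_of_limit_closedImmersion_transitions Y hY (kpDiagram c y)
    (kpFst c y) h1 (kpCone c y) (isLimitKpCone c y hc) h2 h3 i₁ h4
  exact ⟨i₀, fun i φ => (pullback.isIso_diagonal_iff _).1 (h i φ)⟩

end Sp

end Groth.Agent.H5.AlgSp.Lim
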