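import Groth.Agent.Lib.Helper5.AlgSp.Limits.DescRep
import Groth.Agent.Lib.Helper5.AlgSp.SepMor
import Groth.Agent.Lib.Helper5.AlgSp.Limits.MonoLim
import Groth.Agent.Lib.Helper5.AlgSp.Limits.DescSurj
import Groth.Agent.Lib.Helper5.AlgSp.UnivInj
import Mathlib
set_option autoImplicit false
universe u
open CategoryTheory CategoryTheory.Limits AlgebraicGeometry

namespace Groth.Agent.H5.AlgSp.Lim
open _root_.AlgSp Groth.Agent.H5.AlgSp Groth.Agent.H5.Lim Groth.Agent.H5.EtSrc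

/-- The self-fibre-product of a base change is the base change of the self-fibre-product. -/
lemma isPullback_pullbackMap_base {C : Type*} [Category C] [HasPullbacks C] {X X' Y Y' : C}
    {f : X ⟶ Y} {g : Y' ⟶ Y} {fst : X' ⟶ X} {snd : X' ⟶ Y'} (sq : IsPullback fst snd f g) :
    IsPullback (pullback.map snd snd f f fst fst g sq.w.symm sq.w.symm)
      (pullback.fst snd snd ≫ snd) (pullback.fst f f ≫ f) g := by
  refine IsPullback.mk' ?_ ?_ ?_
  · rw [← Category.assoc, pullback.lift_fst, Category.assoc, Category.assoc, sq.w]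
  · intro T φ φ' h1 h2
    have e1 := congrArg (· ≫ pullback.fst f f) h1
    have e2 := congrArg (· ≫ pullback.snd f f) h1
    simp only [Category.assoc, pullback.lift_fst, pullback.lift_snd] at e1 e2
    have h2' : φ ≫ pullback.snd snd snd ≫ snd = φ' ≫ pullback.snd snd snd ≫ snd := by
      rw [← pullback.condition]; simpa using h2
    apply pullback.hom_ext
    · apply sq.hom_ext
      · simpa using e1
      · simpa using h2
    · apply sq.hom_ext
      · simpa using e2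
      · simpa using h2'
  · intro T a b hab
    have h1 : (a ≫ pullback.fst f f) ≫ f = b ≫ g := by rw [Category.assoc, hab]
    have h2 : (a ≫ pullback.snd f f) ≫ f = b ≫ g := by
      rw [Category.assoc, ← pullback.condition, hab]
    refine ⟨pullback.lift (sq.lift _ _ h1) (sq.lift _ _ h2) (by rw [sq.lift_snd, sq.lift_snd]),
      ?_, ?_⟩
    · apply pullback.hom_ext
      · rw [Category.assoc, pullback.lift_fst, ← Category.assoc, pullback.lift_fst, sq.lift_fst]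
      · rw [Category.assoc, pullback.lift_snd, ← Category.assoc, pullback.lift_snd, sq.lift_fst]
    · rw [← Category.assoc, pullback.lift_fst, sq.lift_snd]

variable {S : Scheme.{u}} {I : Type u} [SmallCategory I] [IsCofiltered I]
  {D : I ⥤ Sp S} {c : Cone D} {i₀ : I} {X₀ Y₀ : Sp S} {f₀ : X₀ ⟶ Y₀} {b₀ : Y₀ ⟶ D.obj i₀}

/-- The base of the diagonal of `f₀`, over the stage `i₀`. -/
noncomputable abbrev diagBase (f₀ : X₀ ⟶ Y₀) (b₀ : Y₀ ⟶ D.obj i₀) : pullback f₀ f₀ ⟶ D.obj i₀ :=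
  (pullback.fst f₀ f₀ ≫ f₀) ≫ b₀

/-- The pullback squares for the diagonal. -/
lemma isPullback_diagBase {T : Sp S} {π : T ⟶ D.obj i₀}
    {Xi Yi : Sp S} {fi : Xi ⟶ Yi} {pXi : Xi ⟶ X₀} {pYi : Yi ⟶ Y₀} {qYi : Yi ⟶ T}
    (hYi : IsPullback pYi qYi b₀ π) (hXi : IsPullback pXi fi f₀ pYi) :
    IsPullback (pullback.map fi fi f₀ f₀ pXi pXi pYi hXi.w.symm hXi.w.symm)
      ((pullback.fst fi fi ≫ fi) ≫ qYi) (diagBase f₀ b₀) π :=
  (isPullback_pullbackMap_base hXi).paste_vert hYi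


/-- The diagonal of a locally finite type morphism is locally of finite presentation. -/
theorem locP_lfp_diagonal (hX₀ : IsAlgSpace X₀) (hY₀ : IsAlgSpace Y₀)
    (hf₀ : LocP @LocallyOfFiniteType f₀) :
    LocP @LocallyOfFinitePresentation (pullback.diagonal f₀) := by
  have h1 : LocP @LocallyOfFiniteType (pullback.fst f₀ f₀) :=
    locP_of_isPullback etale_le_lft (IsPullback.of_hasPullback f₀ f₀).flip hX₀ hY₀ hX₀ hf₀
  refine locP_of_comp (Pc := @LocallyOfFiniteType) (g := pullback.fst f₀ f₀) etale_le_lfp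
    (fun u v huv hv => ?_) hX₀ ?_ h1
  · exact locallyOfFinitePresentation_of_comp u v huv hv
  · rw [pullback.diagonal_fst]
    exact locP_id etale_le_lfp X₀

/-- Chart data for the diagonal of `f₀`. -/
theorem DescCtx.exists_diagonal [QuasiSeparatedSpace ↥S]
    (hDa : ∀ (i j : I) (φ : i ⟶ j), IsAffineMor (D.map φ)) (hc : IsLimit c)
    (hX₀ : IsAlgSpace X₀) (hXqc : IsQuasiCompactSp X₀) (hXqs : IsQuasiSeparatedSp X₀)
    (hYqs : IsQuasiSeparatedSp Y₀) :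
    ∃ C : DescCtx D c i₀ (pullback.diagonal f₀) (diagBase f₀ b₀), IsIso C.p := by
  obtain ⟨-, -, -, h3, -⟩ := repWith_relDiag_of_isAlgSpace hX₀ f₀
  have hgqc : RepWith @QuasiCompact (pullback.diagonal f₀) := repWith_relDiag_of_diag f₀ hXqs
  have hgqs : RepWith @QuasiSeparated (pullback.diagonal f₀) :=
    repWith_mono (fun _ _ g hg => by have : IsSeparated g := hg; exact (inferInstance :
      QuasiSeparated g)) h3
  have hZqc : IsQuasiCompactSp (pullback f₀ f₀) :=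
    isQuasiCompactMor_of_isQuasiCompactSp hXqc hYqs f₀ hX₀ hXqc f₀ _ _
      (IsPullback.of_hasPullback f₀ f₀)
  exact DescCtx.exists_of_representable hDa hc hgqc hgqs hZqc

/-- **Descent of monomorphisms along a limit of algebraic spaces.** -/
theorem descend_mono_limit' [QuasiSeparatedSpace ↥S]
    (hDa : ∀ (i j : I) (φ : i ⟶ j), IsAffineMor (D.map φ)) (hc : IsLimit c)
    (hX₀ : IsAlgSpace X₀) (hY₀ : IsAlgSpace Y₀) (hXqc : IsQuasiCompactSp X₀)
    (hXqs : IsQuasiSeparatedSp X₀) (hYqs : IsQuasiSeparatedSp Y₀)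
    {X Y : Sp S} {f : X ⟶ Y} {pY : Y ⟶ Y₀} {qY : Y ⟶ c.pt}
    (hY : IsPullback pY qY b₀ (c.π.app i₀)) {pX : X ⟶ X₀} (hX : IsPullback pX f f₀ pY)
    [Mono f] (hf₀ : LocP @LocallyOfFiniteType f₀) :
    ∃ j : Over i₀, ∀ (k : Over i₀) (_ : k ⟶ j) (Xi Yi : Sp S) (fi : Xi ⟶ Yi) (pYi : Yi ⟶ Y₀)
      (qYi : Yi ⟶ D.obj k.left) (_ : IsPullback pYi qYi b₀ (D.map k.hom)) (pXi : Xi ⟶ X₀)
      (_ : IsPullback pXi fi f₀ pYi), Mono fi := by
  obtain ⟨C, hCp⟩ := DescCtx.exists_diagonal (f₀ := f₀) (b₀ := b₀) hDa hc hX₀ hXqc hXqs hYqs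
  obtain ⟨j, hj⟩ := C.descend_isIso_of_isIso_p hDa (isPullback_diagBase hY hX)
    (isPullback_diag_baseChange hX) (locP_lfp_diagonal hX₀ hY₀ hf₀)
  refine ⟨j, fun k ψ Xi Yi fi pYi qYi hYi pXi hXi => ?_⟩
  have := hj k ψ _ _ _ _ _ (isPullback_diagBase hYi hXi) _ (isPullback_diag_baseChange hXi)
  exact (pullback.isIso_diagonal_iff fi).1 this


/-- **Descent of separatedness along a limit of algebraic spaces.** -/
theorem descend_isSeparatedMor_limit' [QuasiSeparatedSpace ↥S]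
    (hDa : ∀ (i j : I) (φ : i ⟶ j), IsAffineMor (D.map φ)) (hc : IsLimit c)
    (hX₀ : IsAlgSpace X₀) (hXqc : IsQuasiCompactSp X₀)
    (hXqs : IsQuasiSeparatedSp X₀) (hYqs : IsQuasiSeparatedSp Y₀)
    {X Y : Sp S} {f : X ⟶ Y} {pY : Y ⟶ Y₀} {qY : Y ⟶ c.pt}
    (hY : IsPullback pY qY b₀ (c.π.app i₀)) {pX : X ⟶ X₀} (hX : IsPullback pX f f₀ pY)
    (hf : IsSeparatedMor f) :
    ∃ j : Over i₀, ∀ (k : Over i₀) (_ : k ⟶ j) (Xi Yi : Sp S) (fi : Xi ⟶ Yi) (pYi : Yi ⟶ Y₀)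
      (qYi : Yi ⟶ D.obj k.left) (_ : IsPullback pYi qYi b₀ (D.map k.hom)) (pXi : Xi ⟶ X₀)
      (_ : IsPullback pXi fi f₀ pYi), IsSeparatedMor fi := by
  obtain ⟨C, hCp⟩ := DescCtx.exists_diagonal (f₀ := f₀) (b₀ := b₀) hDa hc hX₀ hXqc hXqs hYqs
  obtain ⟨hrep, hlft, -, -, -⟩ := repWith_relDiag_of_isAlgSpace hX₀ f₀
  obtain ⟨j, hj⟩ := C.descend_repWith hDa affineSystemDescent_isClosedImmersion hrep
    (isPullback_diagBase hY hX) (isPullback_diag_baseChange hX) hf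
    (locP_of_repWith etale_le_lft hlft)
  refine ⟨j, fun k ψ Xi Yi fi pYi qYi hYi pXi hXi => ?_⟩
  exact hj k ψ _ _ _ _ _ (isPullback_diagBase hYi hXi) _ (isPullback_diag_baseChange hXi)

/-- **Descent of universal injectivity along a limit of algebraic spaces.** -/
theorem descend_isUnivInjectiveMor_limit' [QuasiSeparatedSpace ↥S]
    (hD : ∀ i, IsAlgSpace (D.obj i))
    (hDa : ∀ (i j : I) (φ : i ⟶ j), IsAffineMor (D.map φ)) (hc : IsLimit c)
    (hX₀ : IsAlgSpace X₀) (hY₀ : IsAlgSpace Y₀) (hXqc : IsQuasiCompactSp X₀)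
    (hXqs : IsQuasiSeparatedSp X₀) (hYqs : IsQuasiSeparatedSp Y₀)
    {X Y : Sp S} {f : X ⟶ Y} {pY : Y ⟶ Y₀} {qY : Y ⟶ c.pt}
    (hY : IsPullback pY qY b₀ (c.π.app i₀)) {pX : X ⟶ X₀} (hX : IsPullback pX f f₀ pY)
    (hf : IsUnivInjectiveMor f) (hf₀ : LocP @LocallyOfFiniteType f₀) :
    ∃ j : Over i₀, ∀ (k : Over i₀) (_ : k ⟶ j) (Xi Yi : Sp S) (fi : Xi ⟶ Yi) (pYi : Yi ⟶ Y₀)
      (qYi : Yi ⟶ D.obj k.left) (_ : IsPullback pYi qYi b₀ (D.map k.hom)) (pXi : Xi ⟶ X₀)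
      (_ : IsPullback pXi fi f₀ pYi), IsUnivInjectiveMor fi := by
  obtain ⟨C, hCp⟩ := DescCtx.exists_diagonal (f₀ := f₀) (b₀ := b₀) hDa hc hX₀ hXqc hXqs hYqs
  have hcpt : IsAlgSpace c.pt := isAlgSpace_limit D hD hDa c hc
  have hYa : IsAlgSpace Y := isAlgSpace_pullback (hD i₀).diag hY₀ hcpt hY
  have hXa : IsAlgSpace X := isAlgSpace_pullback hY₀.diag hX₀ hYa hX
  obtain ⟨j, hj⟩ := C.descend_isSurjectiveMor hDa (isPullback_diagBase hY hX)
    (isPullback_diag_baseChange hX) (isSurjectiveMor_diagonal_of_isUnivInjectiveMor hXa hf)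
    (locP_lfp_diagonal hX₀ hY₀ hf₀)
  refine ⟨j, fun k ψ Xi Yi fi pYi qYi hYi pXi hXi => ?_⟩
  have hYia : IsAlgSpace Yi := isAlgSpace_pullback (hD i₀).diag hY₀ (hD k.left) hYi
  have hXia : IsAlgSpace Xi := isAlgSpace_pullback hY₀.diag hX₀ hYia hXi
  have := hj k ψ _ _ _ _ _ (isPullback_diagBase hYi hXi) _ (isPullback_diag_baseChange hXi)
  exact isUnivInjectiveMor_of_injOnFieldPoints (injOnFieldPoints_of_surjective_diagonal hXia hYia this)

end Groth.Agent.H5.AlgSp.Lim
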