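import Groth.Agent.Lib.Helper5.AlgSp.Limits.DescDiag
import Mathlib
set_option autoImplicit false
universe u
open CategoryTheory CategoryTheory.Limits AlgebraicGeometry

namespace Groth.Agent.H5.AlgSp.Lim
open _root_.AlgSp Groth.Agent.H5.AlgSp Groth.Agent.H5.Lim Groth.Agent.H5.EtSrc

variable {S : Scheme.{u}} {I : Type u} [SmallCategory I] [IsCofiltered I]
  {D : I ⥤ Sp S} {c : Cone D} {i₀ : I} {X₀ Y₀ : Sp S} {f₀ : X₀ ⟶ Y₀} {b₀ : Y₀ ⟶ D.obj i₀}

/-- **Descent of isomorphisms along a limit of algebraic spaces.** -/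
theorem descend_isIso_limit' [QuasiSeparatedSpace ↥S]
    (hDa : ∀ (i j : I) (φ : i ⟶ j), IsAffineMor (D.map φ)) (hc : IsLimit c)
    (hX₀ : IsAlgSpace X₀) (hY₀ : IsAlgSpace Y₀) (hXqc : IsQuasiCompactSp X₀)
    (hXqs : IsQuasiSeparatedSp X₀) (hYqc : IsQuasiCompactSp Y₀) (hYqs : IsQuasiSeparatedSp Y₀)
    {X Y : Sp S} {f : X ⟶ Y} {pY : Y ⟶ Y₀} {qY : Y ⟶ c.pt}
    (hY : IsPullback pY qY b₀ (c.π.app i₀)) {pX : X ⟶ X₀} (hX : IsPullback pX f f₀ pY)
    [IsIso f] (hf₀ : LocP @LocallyOfFinitePresentation f₀) :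
    ∃ j : Over i₀, ∀ (k : Over i₀) (_ : k ⟶ j) (Xi Yi : Sp S) (fi : Xi ⟶ Yi) (pYi : Yi ⟶ Y₀)
      (qYi : Yi ⟶ D.obj k.left) (_ : IsPullback pYi qYi b₀ (D.map k.hom)) (pXi : Xi ⟶ X₀)
      (_ : IsPullback pXi fi f₀ pYi), IsIso fi := by
  -- monomorphism
  obtain ⟨j₁, hj₁⟩ := descend_mono_limit' (f₀ := f₀) (b₀ := b₀) hDa hc hX₀ hY₀ hXqc hXqs hYqs
    hY hX (locP_mono (fun _ _ g hg => by
      have : LocallyOfFinitePresentation g := hg
      exact (inferInstance : LocallyOfFiniteType g)) hf₀)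
  -- étale and surjective charts
  obtain ⟨C⟩ := DescCtx.exists_of_qc (f₀ := f₀) (b₀ := b₀) (i₀ := i₀) hDa hc hXqc hYqc hYqs
  obtain ⟨vW, a, pW, -, -, hpWe, hpWs, -, -, hpW⟩ := C.exists_limit_charts hY hX
  have hiso : IsIso (pullback.snd f vW) := inferInstance
  have h2e : Etale (pullback.snd C.h₀ C.CS.snd).left := by
    rw [← repWith_yon_map_iff @Etale, ← hpW]
    exact (RepWith @Etale).comp_mem _ _ hpWe (repWith_of_isIso _ _)
  have h2s : Surjective (pullback.snd C.h₀ C.CS.snd).left := by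
    rw [← repWith_yon_map_iff @Surjective, ← hpW]
    exact (RepWith @Surjective).comp_mem _ _ hpWs (repWith_of_isIso _ _)
  obtain ⟨j₂, hj₂⟩ := C.descend hDa affineSystemDescent_etale hf₀ h2e
  obtain ⟨j₃, hj₃⟩ := C.descend hDa affineSystemDescent_surjective hf₀ h2s
  let j₁₂ := IsCofiltered.min j₁ j₂
  let j := IsCofiltered.min j₁₂ j₃
  refine ⟨j, fun k ψ Xi Yi fi pYi qYi hYi pXi hXi => ?_⟩
  have ψ₁ : k ⟶ j₁ := ψ ≫ IsCofiltered.minToLeft j₁₂ j₃ ≫ IsCofiltered.minToLeft j₁ j₂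
  have ψ₂ : k ⟶ j₂ := ψ ≫ IsCofiltered.minToLeft j₁₂ j₃ ≫ IsCofiltered.minToRight j₁ j₂
  have ψ₃ : k ⟶ j₃ := ψ ≫ IsCofiltered.minToRight j₁₂ j₃
  have hmono : Mono fi := hj₁ k ψ₁ Xi Yi fi pYi qYi hYi pXi hXi
  obtain ⟨vi, a, pi, hvie, hvis, -, -, -, -, hpi⟩ := C.exists_stage_charts k hYi hXi
  have he : RepWith @Etale ((yon S).map (pullback.snd C.h₀ (C.CS.P.q k))) :=
    (repWith_yon_map_iff @Etale _).2 (hj₂ k ψ₂)
  have hs : RepWith @Surjective ((yon S).map (pullback.snd C.h₀ (C.CS.P.q k))) :=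
    (repWith_yon_map_iff @Surjective _).2 (hj₃ k ψ₃)
  have : Sheaf.IsLocallySurjective ((yon S).map (pullback.snd C.h₀ (C.CS.P.q k))) :=
    isLocallySurjective_of_etale_surjective _ he hs
  have hepi : Epi (pi ≫ pullback.snd fi vi) := by rw [hpi]; infer_instance
  have : Epi (pullback.snd fi vi) := epi_of_epi pi _
  have : Mono (pullback.snd fi vi) := inferInstance
  have : IsIso (pullback.snd fi vi) := isIso_of_mono_of_epi _
  have : Sheaf.IsLocallySurjective vi := isLocallySurjective_of_etale_surjective vi hvie hvis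
  exact isIso_of_isPullback_of_isLocallySurjective (IsPullback.of_hasPullback fi vi)

end Groth.Agent.H5.AlgSp.Lim
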