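import Groth.Agent.Lib.Helper5.AlgSp.Limits.DescCharts
import Groth.Agent.Lib.Helper5.Lim.DescendOver
import Mathlib
set_option autoImplicit false
universe u
open CategoryTheory CategoryTheory.Limits AlgebraicGeometry

namespace Groth.Agent.H5.AlgSp.Lim
open _root_.AlgSp Groth.Agent.H5.AlgSp Groth.Agent.H5.Lim Groth.Agent.H5.EtSrc

variable {S : Scheme.{u}} {I : Type u} [SmallCategory I] [IsCofiltered I]

/-- Transfer of a property of the second projection between a pullback in `Over S` and the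
pullback of the underlying schemes. -/
lemma prop_pullback_snd_left_iff {P : MorphismProperty Scheme.{u}} [P.RespectsIso]
    {A B C : Over S} (f : A ⟶ C) (g : B ⟶ C) :
    P (pullback.snd f g).left ↔ P (pullback.snd f.left g.left) := by
  have sqS : IsPullback (pullback.fst f g).left (pullback.snd f g).left f.left g.left :=
    (IsPullback.of_hasPullback f g).map (Over.forget S)
  rw [← sqS.isoPullback_hom_snd]
  exact P.cancel_left_of_respectsIso _ _

/-- The basic chart data for a morphism `f₀ : X₀ ⟶ Y₀` of quasi-compact algebraic spaces with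
`Y₀` quasi-separated: affine charts `V₀` of `Y₀` and `U₀` of `X₀ ×_{Y₀} V₀`. -/
theorem exists_affine_chart_diagram [QuasiSeparatedSpace ↥S] {X₀ Y₀ : Sp S}
    (f₀ : X₀ ⟶ Y₀) (hXqc : IsQuasiCompactSp X₀)
    (hYqc : IsQuasiCompactSp Y₀) (hYqs : IsQuasiSeparatedSp Y₀) :
    ∃ (V₀ : Over S) (v : (yon S).obj V₀ ⟶ Y₀) (U₀ : Over S)
      (p : (yon S).obj U₀ ⟶ pullback f₀ v) (h₀ : U₀ ⟶ V₀),
      IsAffine V₀.left ∧ RepWith @Etale v ∧ RepWith @Surjective v ∧
      IsAffine U₀.left ∧ RepWith @Etale p ∧ RepWith @Surjective p ∧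
      p ≫ pullback.snd f₀ v = (yon S).map h₀ := by
  obtain ⟨V₀, v, hV₀, hve, hvs⟩ := exists_affine_chart_of_isQuasiCompactSp hYqc
  have hqc : IsQuasiCompactSp (pullback f₀ v) :=
    isQuasiCompactMor_of_isQuasiCompactSp hXqc hYqs f₀ (IsAlgSpace.yon_obj V₀)
      ((isQuasiCompactSp_yon_iff V₀).2 inferInstance) v _ _ (IsPullback.of_hasPullback f₀ v)
  obtain ⟨U₀, p, hU₀, hpe, hps⟩ := exists_affine_chart_of_isQuasiCompactSp hqc
  obtain ⟨h₀, hh₀⟩ := (yon S).map_surjective (p ≫ pullback.snd f₀ v)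
  exact ⟨V₀, v, U₀, p, h₀, hV₀, hve, hvs, hU₀, hpe, hps, hh₀.symm⟩


/-- **Descent of a property étale local on source and target along a limit of algebraic spaces
with affine transition maps.** -/
theorem descend_locP_limit [QuasiSeparatedSpace ↥S]
    {P Φ₀ : MorphismProperty Scheme.{u}} [P.IsStableUnderBaseChange] [P.IsStableUnderComposition]
    [IsEtaleLocalSource P] (hP : (@Etale : MorphismProperty Scheme.{u}) ≤ P)
    [Φ₀.IsStableUnderBaseChange]
    (H : AffineSystemDescent P (Φ₀ ⊓ (@QuasiCompact ⊓ @QuasiSeparated)))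
    (D : I ⥤ Sp S) (hDa : ∀ (i j : I) (φ : i ⟶ j), IsAffineMor (D.map φ))
    (c : Cone D) (hc : IsLimit c) (i₀ : I)
    {X₀ Y₀ : Sp S} (f₀ : X₀ ⟶ Y₀) (b₀ : Y₀ ⟶ D.obj i₀)
    (hXqc : IsQuasiCompactSp X₀) (hYqc : IsQuasiCompactSp Y₀) (hYqs : IsQuasiSeparatedSp Y₀)
    {X Y : Sp S} (f : X ⟶ Y) (pY : Y ⟶ Y₀) (qY : Y ⟶ c.pt)
    (hY : IsPullback pY qY b₀ (c.π.app i₀)) (pX : X ⟶ X₀) (hX : IsPullback pX f f₀ pY)
    (hf : LocP P f) (hf₀ : LocP Φ₀ f₀) :
    ∃ (i : I) (φ : i ⟶ i₀), ∀ (Xi Yi : Sp S) (fi : Xi ⟶ Yi) (pYi : Yi ⟶ Y₀)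
      (qYi : Yi ⟶ D.obj i) (_ : IsPullback pYi qYi b₀ (D.map φ)) (pXi : Xi ⟶ X₀)
      (_ : IsPullback pXi fi f₀ pYi), LocP P fi := by
  have : P.RespectsIso := MorphismProperty.IsStableUnderBaseChange.respectsIso
  obtain ⟨V₀, v, U₀, p, h₀, hV₀, hve, hvs, hU₀, hpe, hps, hh₀⟩ :=
    exists_affine_chart_diagram f₀ hXqc hYqc hYqs
  -- the chart of `X₀`
  have sq₀ := IsPullback.of_hasPullback f₀ v
  have hue : RepWith @Etale (p ≫ pullback.fst f₀ v) :=
    (RepWith @Etale).comp_mem _ _ hpe ((RepWith @Etale).of_isPullback sq₀.flip hve)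
  have hus : RepWith @Surjective (p ≫ pullback.fst f₀ v) :=
    (RepWith @Surjective).comp_mem _ _ hps ((RepWith @Surjective).of_isPullback sq₀.flip hvs)
  have comm : (p ≫ pullback.fst f₀ v) ≫ f₀ = (yon S).map h₀ ≫ v := by
    rw [Category.assoc, pullback.condition, ← Category.assoc, hh₀]
  have hΦh₀ : Φ₀ h₀.left := hf₀ _ _ h₀ hue hve comm
  -- the chart system
  obtain ⟨CS⟩ := ChartSystem.exists_of_isAffineMor D hDa c hc i₀ (v ≫ b₀)
  have hA : ∀ j, IsAffine (CS.F.obj j) := fun j => by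
    have : IsAffineHom (CS.P.q j).left := CS.isAffineHom_q hDa j
    change IsAffine (CS.P.E.obj j).left
    exact isAffine_of_isAffineHom (CS.P.q j).left
  -- the limit
  obtain ⟨vW, hvW, sqW⟩ := CS.exists_limit_chart hY
  have hvWe : RepWith @Etale vW := (RepWith @Etale).of_isPullback sqW.flip hve
  obtain ⟨uW, huW, sqUW⟩ := exists_chart_lift hX comm sqW (IsPullback.of_hasPullback h₀ CS.snd)
  have huWe : RepWith @Etale uW := (RepWith @Etale).of_isPullback sqUW.flip hue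
  have h1 : P (pullback.snd h₀ CS.snd).left := hf uW vW _ huWe hvWe huW
  rw [prop_pullback_snd_left_iff (P := P)] at h1
  let j₁ : Over i₀ := Over.mk (𝟙 i₀)
  have e1 : CS.snd.left = CS.cF.π.app j₁ ≫ (CS.P.q j₁).left := by
    rw [← CS.π_q j₁]; rfl
  rw [bc_congr (P := P) h₀.left e1] at h1
  have hΦ : (Φ₀ ⊓ (@QuasiCompact ⊓ @QuasiSeparated)) h₀.left := by
    refine ⟨hΦh₀, ?_, ?_⟩
    · change QuasiCompact h₀.left; infer_instance
    · change QuasiSeparated h₀.left; infer_instance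
  have : (Φ₀ ⊓ (@QuasiCompact ⊓ @QuasiSeparated)).IsStableUnderBaseChange := inferInstance
  obtain ⟨j, hj⟩ := exists_bc_of_affineSystemDescent_over H CS.F CS.cF CS.hcF
    (fun j => (CS.P.q j).left)
    (fun {j k} φ => by
      change (CS.P.E.map φ).left ≫ (CS.P.q k).left = (CS.P.q j).left
      rw [← Over.comp_left, CS.P.q_nat])
    h₀.left hΦ j₁ h1
  refine ⟨j.left, j.hom, ?_⟩
  intro Xi Yi fi pYi qYi hYi pXi hXi
  obtain ⟨vi, hvi, sqVi⟩ := CS.exists_stage_chart j hYi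
  have hvie : RepWith @Etale vi := (RepWith @Etale).of_isPullback sqVi.flip hve
  obtain ⟨ui, hui, sqUi⟩ := exists_chart_lift hXi comm sqVi
    (IsPullback.of_hasPullback h₀ (CS.P.q j))
  have huie : RepWith @Etale ui := (RepWith @Etale).of_isPullback sqUi.flip hue
  have huis : RepWith @Surjective ui := (RepWith @Surjective).of_isPullback sqUi.flip hus
  refine locP_of_one_chart hP ui vi _ huie huis hvie hui ?_
  rw [prop_pullback_snd_left_iff (P := P)]
  exact hj j (𝟙 j)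

end Groth.Agent.H5.AlgSp.Lim
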