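import Mathlib
set_option autoImplicit false
universe u
open CategoryTheory CategoryTheory.Limits AlgebraicGeometry

namespace Groth.Agent.H5.AlgSp.Lim

section Scheme

variable {J : Type u} [Category.{u} J] [IsCofiltered J] (D : J ⥤ Scheme.{u}) (c : Cone D)
  (hc : IsLimit c)

include hc in
/-- A closed subscheme of a cofiltered limit of affine schemes that is of finite type over a
stage is a closed subscheme of all sufficiently deep stages. -/
theorem exists_isClosedImmersion_comp_π_of_isAffine [∀ j, IsAffine (D.obj j)]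
    {W : Scheme.{u}} [IsAffine W] (w : W ⟶ c.pt) (hw : IsClosedImmersion w) (j₁ : J)
    (hft : LocallyOfFiniteType (w ≫ c.π.app j₁)) :
    ∃ (j : J) (_ : j ⟶ j₁), ∀ (j' : J) (_ : j' ⟶ j), IsClosedImmersion (w ≫ c.π.app j') := by
  have : IsAffine c.pt := Scheme.isAffine_of_isLimit c hc
  -- the range of sections at each stage
  let R : J → Set Γ(W, ⊤) := fun j => Set.range (w ≫ c.π.app j).appTop
  have hmono : ∀ {j' j : J} (a : j' ⟶ j), R j ⊆ R j' := by
    rintro j' j a _ ⟨x, rfl⟩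
    refine ⟨(D.map a).appTop x, ?_⟩
    have : w ≫ c.π.app j = (w ≫ c.π.app j') ≫ D.map a := by rw [Category.assoc, c.w]
    rw [this, Scheme.Hom.comp_appTop]
    rfl
  have hex : ∀ g : Γ(W, ⊤), ∃ j, g ∈ R j := by
    intro g
    obtain ⟨s, rfl⟩ := w.app_surjective ⊤ (isAffineOpen_top _) g
    obtain ⟨j, t, rfl⟩ := exists_appTop_π_eq_of_isAffine_of_isLimit D c hc s
    refine ⟨j, t, ?_⟩
    rw [Scheme.Hom.comp_appTop]
    rfl
  have hfin : ∀ s : Finset Γ(W, ⊤), ∃ (j : J) (_ : j ⟶ j₁), ∀ g ∈ s, g ∈ R j := by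
    classical
    intro s
    induction s using Finset.induction with
    | empty => exact ⟨j₁, 𝟙 _, by simp⟩
    | insert g s _ ih =>
      obtain ⟨j, a, hj⟩ := ih
      obtain ⟨k, hk⟩ := hex g
      refine ⟨IsCofiltered.min j k, IsCofiltered.minToLeft j k ≫ a, ?_⟩
      intro g' hg'
      rw [Finset.mem_insert] at hg'
      rcases hg' with rfl | hg'
      · exact hmono (IsCofiltered.minToRight j k) hk
      · exact hmono (IsCofiltered.minToLeft j k) (hj g' hg')
  -- finite type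
  have hft : (w ≫ c.π.app j₁).appTop.hom.FiniteType :=
    (HasRingHomProperty.iff_of_isAffine (P := @LocallyOfFiniteType)).1 hft
  algebraize [(w ≫ c.π.app j₁).appTop.hom]
  obtain ⟨s, hs⟩ := (inferInstance : Algebra.FiniteType Γ(D.obj j₁, ⊤) Γ(W, ⊤)).out
  obtain ⟨j, a, hj⟩ := hfin s
  refine ⟨j, a, fun j' b => ?_⟩
  refine IsClosedImmersion.of_surjective_of_isAffine (X := W) (Y := D.obj j') _ ?_
  intro g
  -- the range as a subalgebra
  let ψ : Γ(D.obj j', ⊤) →+* Γ(W, ⊤) := (w ≫ c.π.app j').appTop.hom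
  let A : Subalgebra Γ(D.obj j₁, ⊤) Γ(W, ⊤) :=
    { ψ.range with
      algebraMap_mem' := fun x => hmono (b ≫ a) ⟨x, rfl⟩ }
  have hle : Algebra.adjoin Γ(D.obj j₁, ⊤) (s : Set Γ(W, ⊤)) ≤ A :=
    Algebra.adjoin_le (fun g hg => hmono b (hj g hg))
  rw [hs] at hle
  exact hle (Algebra.mem_top : g ∈ ⊤)

end Scheme

end Groth.Agent.H5.AlgSp.Lim
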