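import Groth.Agent.Lib.Helper5.AlgSp.Limits.PBSystem
import Groth.Agent.Lib.Helper5.AlgSp.Limits.EvClosedImm
import Groth.Agent.Lib.Helper5.AlgSp.LocPCalc
import Groth.Agent.Lib.Helper5.AlgSp.AffineChart
import Groth.Agent.Lib.Helper5.AlgSp.LocalBase
import Groth.Agent.Lib.Helper5.AlgSp.FppfLocal
import Groth.Agent.Lib.Helper5.AlgSp.Proper
import Mathlib
set_option autoImplicit false
universe u
open CategoryTheory CategoryTheory.Limits AlgebraicGeometry

namespace Groth.Agent.H5.AlgSp.Lim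
open _root_.AlgSp Groth.Agent.H5.AlgSp

variable {S : Scheme.{u}} {I : Type u} [SmallCategory I] [IsCofiltered I]

/-- A quasi-compact sheaf has an affine étale surjective chart. -/
lemma exists_affine_chart_of_isQuasiCompactSp {F : Sp S} (hF : IsQuasiCompactSp F) :
    ∃ (U : Over S) (p : (yon S).obj U ⟶ F), IsAffine U.left ∧ RepWith @Etale p ∧
      RepWith @Surjective p := by
  obtain ⟨U, p, hpe, hps, hU⟩ := hF
  have : CompactSpace ↥U.left := hU
  obtain ⟨U', q, hU', hqe, hqs⟩ := exists_affine_chart_of_compact U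
  exact ⟨U', (yon S).map q ≫ p, hU', repWith_comp_yon_map @Etale q hqe hpe,
    repWith_comp_yon_map @Surjective q hqs hps⟩

theorem eventually_closedImmersion_of_limit
    (B : Sp S) (hB : IsAlgSpace B) (D : I ⥤ Sp S)
    (t : D ⟶ (Functor.const I).obj B)
    (hDa : ∀ (i j : I) (φ : i ⟶ j), IsAffineMor (D.map φ))
    (c : Cone D) (hc : IsLimit c)
    (hqc : ∀ i, IsQuasiCompactSp (D.obj i))
    (Y : Sp S) (y : Y ⟶ c.pt) (hy : RepWith @IsClosedImmersion y) (i₁ : I)
    (hYB : LocP @LocallyOfFiniteType (y ≫ c.π.app i₁ ≫ t.app i₁)) :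
    ∃ i₀ : I, ∀ (i : I) (_ : i ⟶ i₀), RepWith @IsClosedImmersion (y ≫ c.π.app i) := by
  obtain ⟨U₀, p, hU₀, hpe, hps⟩ := exists_affine_chart_of_isQuasiCompactSp (hqc i₁)
  obtain ⟨CS⟩ := ChartSystem.exists_of_isAffineMor D hDa c hc i₁ p
  have hm : ∀ {j k : Over i₁} (φ : j ⟶ k), IsAffineHom (CS.F.map φ) :=
    fun φ => CS.isAffineHom_map hDa φ
  have hA : ∀ j, IsAffine (CS.F.obj j) := fun j => by
    have : IsAffineHom (CS.P.q j).left := CS.isAffineHom_q hDa j
    change IsAffine (CS.P.E.obj j).left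
    exact isAffine_of_isAffineHom (CS.P.q j).left
  -- the pullback of `y` to the chart `U`
  have hfe : RepWith @Etale CS.fst := (RepWith @Etale).of_isPullback CS.sq.flip hpe
  obtain ⟨W, w, yW, sqW⟩ := hy.1 CS.fst
  have hw : IsClosedImmersion w.left := hy.2 _ _ _ sqW
  have hUaff : IsAffine CS.cF.pt := Scheme.isAffine_of_isLimit CS.cF CS.hcF
  have hWaff : IsAffine W.left := by
    have : IsAffine CS.cE.pt.left := hUaff
    exact isAffine_of_isAffineHom w.left
  -- finite type over `U₀`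
  have hyWe : RepWith @Etale yW := (RepWith @Etale).of_isPullback sqW.flip hfe
  have h1 : LocP @LocallyOfFiniteType (yW ≫ y ≫ c.π.app i₁ ≫ t.app i₁) := locP_comp_etale hyWe hYB
  have h2 : yW ≫ y ≫ c.π.app i₁ ≫ t.app i₁ =
      (yon S).map (w ≫ CS.snd) ≫ (p ≫ t.app i₁) := by
    rw [← Category.assoc yW, sqW.w, Category.assoc, ← Category.assoc CS.fst, CS.sq.w,
      Functor.map_comp, Category.assoc, Category.assoc]
  rw [h2] at h1
  have h3 : LocP @LocallyOfFiniteType ((yon S).map (w ≫ CS.snd)) :=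
    locP_of_comp (Pc := ⊤) etale_le_lft
      (fun u v huv _ => by
        have : LocallyOfFiniteType (u ≫ v) := huv
        exact locallyOfFiniteType_of_comp u v) hB h1
      (fun _ _ _ _ _ _ _ _ => trivial)
  have h4 : LocallyOfFiniteType (w ≫ CS.snd).left := locP_yon_map h3
  -- apply the scheme-level result
  have h5 : LocallyOfFiniteType (w.left ≫ CS.cF.π.app (Over.mk (𝟙 i₁))) := by
    have h6 : (w ≫ CS.snd).left =
        (w.left ≫ CS.cF.π.app (Over.mk (𝟙 i₁))) ≫ (CS.P.q (Over.mk (𝟙 i₁))).left := by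
      rw [← CS.π_q (Over.mk (𝟙 i₁))]
      rfl
    rw [h6] at h4
    exact locallyOfFiniteType_of_comp _ (CS.P.q (Over.mk (𝟙 i₁))).left
  obtain ⟨j, a, hj⟩ := exists_isClosedImmersion_comp_π_of_isAffine CS.F CS.cF CS.hcF
    (W := W.left) w.left hw (Over.mk (𝟙 i₁)) h5
  refine ⟨j.left, fun i φ => ?_⟩
  let j' : Over i₁ := Over.mk (φ ≫ j.hom)
  let b : j' ⟶ j := Over.homMk φ rfl
  have hci : IsClosedImmersion (w ≫ CS.cE.π.app j').left := hj j' b
  -- the base change square
  let fj : (yon S).obj (CS.P.E.obj j') ⟶ D.obj i := CS.P.f j'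
  have sq1 : IsPullback ((yon S).map w ≫ (yon S).map (CS.cE.π.app j')) yW fj
      (y ≫ c.π.app i) := sqW.flip.paste_horiz (CS.isPullback_π j')
  have hfs : RepWith @Surjective fj :=
    (RepWith @Surjective).of_isPullback (CS.sq' j').flip hps
  have hfe' : RepWith @Etale fj :=
    (RepWith @Etale).of_isPullback (CS.sq' j').flip hpe
  have : Sheaf.IsLocallySurjective fj := isLocallySurjective_of_etale_surjective _ hfe' hfs
  have hrep : Representable (y ≫ c.π.app i) :=
    (Representable (S := S)).comp_mem _ _ hy.1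
      (repWith_isAffineHom_of_isAffineMor (isAffineMor_π_app D hDa c hc i)).1
  refine repWith_of_locallySurjective_baseChange (y ≫ c.π.app i) hrep fj yW
    ((yon S).map w ≫ (yon S).map (CS.cE.π.app j')) sq1.flip @IsClosedImmersion ?_
  rw [← Functor.map_comp]
  exact (repWith_yon_map_iff @IsClosedImmersion _).2 hci

end Groth.Agent.H5.AlgSp.Lim
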