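import Groth.Agent.Lib.Helper5.AlgSp.Limits.ClosedImmLim
import Groth.Agent.Lib.Helper5.AlgSp.Limits.EvClosedImmSp
import Groth.Agent.Lib.Helper5.AlgSp.MonoDesc
import Groth.Agent.Lib.Helper5.AlgSp.AffineMor
import Groth.Agent.Lib.Helper5.EtSrc.OfComp
import Mathlib
set_option autoImplicit false
universe u
open CategoryTheory CategoryTheory.Limits AlgebraicGeometry

namespace Groth.Agent.H5.AlgSp.Lim

section Scheme

lemma appTop_surjective_of_isClosedImmersion {X Y : Scheme.{u}} (f : X ⟶ Y) [IsClosedImmersion f]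
    [IsAffine Y] : Function.Surjective f.appTop :=
  f.app_surjective ⊤ (isAffineOpen_top _)

variable {J : Type u} [Category.{u} J] [IsCofiltered J] (D : J ⥤ Scheme.{u}) (c : Cone D)
  (hc : IsLimit c)

include hc in
/-- In a cofiltered limit of affine schemes along closed immersions, if a projection is locally
of finite presentation, then the projections are eventually isomorphisms. -/
theorem exists_isIso_π_of_isAffine [∀ j, IsAffine (D.obj j)]
    (hD : ∀ {i j : J} (f : i ⟶ j), IsClosedImmersion (D.map f)) (j₁ : J)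
    (hfp : LocallyOfFinitePresentation (c.π.app j₁)) :
    ∃ (j : J) (_ : j ⟶ j₁), ∀ (j' : J) (_ : j' ⟶ j), IsIso (c.π.app j') := by
  have : IsAffine c.pt := Scheme.isAffine_of_isLimit c hc
  have hπ : ∀ j, IsClosedImmersion (c.π.app j) := isClosedImmersion_π_of_isAffine D c hc hD
  -- the kernel is finitely generated
  let π₁ : c.pt ⟶ D.obj j₁ := c.π.app j₁
  have hfp' : π₁.appTop.hom.FinitePresentation :=
    (HasRingHomProperty.iff_of_isAffine (P := @LocallyOfFinitePresentation)).1 hfp
  have : IsClosedImmersion π₁ := hπ j₁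
  have hsurj : Function.Surjective π₁.appTop.hom := appTop_surjective_of_isClosedImmersion π₁
  have hfg : (RingHom.ker π₁.appTop.hom).FG := by
    algebraize [π₁.appTop.hom]
    exact Algebra.FinitePresentation.ker_fG_of_surjective
      (Algebra.ofId Γ(D.obj j₁, ⊤) Γ(c.pt, ⊤)) hsurj
  obtain ⟨s, hs⟩ := hfg
  have hfin : ∀ s' : Finset Γ(D.obj j₁, ⊤), (∀ a ∈ s', (c.π.app j₁).appTop a = 0) →
      ∃ K : Over j₁, ∀ a ∈ s', (D.map K.hom).appTop a = 0 := by
    classical
    intro s'
    induction s' using Finset.induction with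
    | empty => exact fun _ => ⟨Over.mk (𝟙 j₁), by simp⟩
    | insert g s' _ ih =>
      intro h
      obtain ⟨K, hK⟩ := ih (fun a ha => h a (Finset.mem_insert_of_mem ha))
      obtain ⟨k, f, hk⟩ := exists_appTop_map_eq_zero_of_isAffine_of_isLimit D c hc j₁ g
        (h g (Finset.mem_insert_self _ _))
      let K' : Over j₁ := Over.mk f
      refine ⟨IsCofiltered.min K K', ?_⟩
      intro a ha
      rw [Finset.mem_insert] at ha
      rcases ha with rfl | ha
      · have h1 : (IsCofiltered.min K K').hom = (IsCofiltered.minToRight K K').left ≫ f :=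
          (Over.w (IsCofiltered.minToRight K K')).symm
        rw [h1, D.map_comp, Scheme.Hom.comp_appTop]
        change (D.map (IsCofiltered.minToRight K K').left).appTop ((D.map f).appTop a) = 0
        rw [hk, map_zero]
      · have h1 : (IsCofiltered.min K K').hom = (IsCofiltered.minToLeft K K').left ≫ K.hom :=
          (Over.w (IsCofiltered.minToLeft K K')).symm
        rw [h1, D.map_comp, Scheme.Hom.comp_appTop]
        change (D.map (IsCofiltered.minToLeft K K').left).appTop ((D.map K.hom).appTop a) = 0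
        rw [hK a ha, map_zero]
  obtain ⟨K, hK⟩ := hfin s (fun a ha => by
    have : a ∈ RingHom.ker (c.π.app j₁).appTop.hom := hs ▸ Ideal.subset_span ha
    exact this)
  refine ⟨K.left, K.hom, fun j' b => ?_⟩
  have := hπ j'
  apply IsClosedImmersion.isIso_of_injective_of_isAffine
  rw [injective_iff_map_eq_zero]
  intro x hx
  have := hD (b ≫ K.hom)
  obtain ⟨a, rfl⟩ := appTop_surjective_of_isClosedImmersion (D.map (b ≫ K.hom)) x
  have h1 : (c.π.app j₁).appTop a = 0 := by
    have : c.π.app j₁ = c.π.app j' ≫ D.map (b ≫ K.hom) := (c.w _).symm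
    rw [this, Scheme.Hom.comp_appTop]
    exact hx
  have h2 : a ∈ RingHom.ker (D.map K.hom).appTop.hom := by
    have h3 : RingHom.ker (c.π.app j₁).appTop.hom ≤ RingHom.ker (D.map K.hom).appTop.hom := by
      rw [← hs, Ideal.span_le]
      intro a ha
      exact hK a ha
    exact h3 h1
  rw [D.map_comp, Scheme.Hom.comp_appTop]
  change (D.map b).appTop ((D.map K.hom).appTop a) = 0
  rw [show (D.map K.hom).appTop a = 0 from h2, map_zero]

end Scheme

end Groth.Agent.H5.AlgSp.Lim

namespace Groth.Agent.H5.AlgSp.Lim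
open _root_.AlgSp Groth.Agent.H5.AlgSp

variable {S : Scheme.{u}}

/-- Being an isomorphism descends along a locally surjective base change. -/
theorem isIso_of_isPullback_of_isLocallySurjective {F G H P : Sp S} {fst : P ⟶ F} {snd : P ⟶ H}
    {f : F ⟶ G} {p : H ⟶ G} (sq : IsPullback fst snd f p) [Sheaf.IsLocallySurjective p]
    [IsIso snd] : IsIso f := by
  have : Mono f := mono_of_isPullback_of_isLocallySurjective sq
  have hp : Epi p := inferInstance
  have hfac : p = (inv snd ≫ fst) ≫ f := by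
    rw [Category.assoc, sq.w, IsIso.inv_hom_id_assoc]
  have : Epi ((inv snd ≫ fst) ≫ f) := hfac ▸ hp
  have : Epi f := epi_of_epi (inv snd ≫ fst) f
  exact isIso_of_mono_of_epi f

variable {I : Type u} [SmallCategory I] [IsCofiltered I]

theorem eventually_isIso_of_limit_closedImmersion_transitions
    (B : Sp S) (hB : IsAlgSpace B) (D : I ⥤ Sp S)
    (t : D ⟶ (Functor.const I).obj B)
    (hDc : ∀ (i j : I) (φ : i ⟶ j), RepWith @IsClosedImmersion (D.map φ))
    (c : Cone D) (hc : IsLimit c)
    (hqc : ∀ i, IsQuasiCompactSp (D.obj i))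
    (hft : ∀ i, LocP @LocallyOfFiniteType (t.app i)) (i₁ : I)
    (hX : LocP @LocallyOfFinitePresentation (c.π.app i₁ ≫ t.app i₁)) :
    ∃ i₀ : I, ∀ (i : I) (_ : i ⟶ i₀), IsIso (c.π.app i) := by
  have hDa : ∀ (i j : I) (φ : i ⟶ j), IsAffineMor (D.map φ) := fun i j φ =>
    isAffineMor_of_repWith (repWith_mono (fun _ _ f hf => by
      have : IsClosedImmersion f := hf
      exact (inferInstance : IsAffineHom f)) (hDc i j φ))
  obtain ⟨U₀, p, hU₀, hpe, hps⟩ := exists_affine_chart_of_isQuasiCompactSp (hqc i₁)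
  obtain ⟨CS⟩ := ChartSystem.exists_of_isAffineMor D hDa c hc i₁ p
  have hA : ∀ j, IsAffine (CS.F.obj j) := fun j => by
    have : IsAffineHom (CS.P.q j).left := CS.isAffineHom_q hDa j
    change IsAffine (CS.P.E.obj j).left
    exact isAffine_of_isAffineHom (CS.P.q j).left
  have hmap : ∀ {j k : Over i₁} (φ : j ⟶ k), IsClosedImmersion (CS.F.map φ) := fun φ =>
    (hDc _ _ φ.left).2 _ _ _ (CS.isPullback_map φ).flip
  have hq : ∀ j, IsClosedImmersion (CS.P.q j).left := fun j =>
    (hDc _ _ j.hom).2 _ _ _ (CS.sq' j)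
  -- finite presentation of the projection
  have hfe : RepWith @Etale CS.fst := (RepWith @Etale).of_isPullback CS.sq.flip hpe
  have h1 : LocP @LocallyOfFinitePresentation (CS.fst ≫ c.π.app i₁ ≫ t.app i₁) :=
    locP_comp_etale hfe hX
  have h2 : CS.fst ≫ c.π.app i₁ ≫ t.app i₁ = (yon S).map CS.snd ≫ (p ≫ t.app i₁) := by
    rw [← Category.assoc CS.fst, CS.sq.w, Category.assoc]
  rw [h2] at h1
  have h3 : LocP @LocallyOfFinitePresentation ((yon S).map CS.snd) :=
    locP_of_comp (Pc := @LocallyOfFiniteType) etale_le_lfp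
      (fun u v huv hv => Groth.Agent.H5.EtSrc.locallyOfFinitePresentation_of_comp u v huv hv)
      hB h1 (locP_comp_etale hpe (hft i₁))
  have h4 : LocallyOfFinitePresentation CS.snd.left := locP_yon_map h3
  have h5 : LocallyOfFinitePresentation (CS.cF.π.app (Over.mk (𝟙 i₁))) := by
    have h6 : CS.snd.left =
        CS.cF.π.app (Over.mk (𝟙 i₁)) ≫ (CS.P.q (Over.mk (𝟙 i₁))).left := by
      rw [← CS.π_q (Over.mk (𝟙 i₁))]
      rfl
    rw [h6] at h4
    have hq₀ : IsClosedImmersion (CS.P.q (Over.mk (𝟙 i₁))).left := hq (Over.mk (𝟙 i₁))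
    have hq₁ : LocallyOfFiniteType (CS.P.q (Over.mk (𝟙 i₁))).left := inferInstance
    exact Groth.Agent.H5.EtSrc.locallyOfFinitePresentation_of_comp _
      (CS.P.q (Over.mk (𝟙 i₁))).left h4 hq₁
  obtain ⟨j, a, hj⟩ := exists_isIso_π_of_isAffine CS.F CS.cF CS.hcF hmap (Over.mk (𝟙 i₁)) h5
  refine ⟨j.left, fun i φ => ?_⟩
  let j' : Over i₁ := Over.mk (φ ≫ j.hom)
  let b : j' ⟶ j := Over.homMk φ rfl
  have hiso : IsIso (CS.cE.π.app j').left := hj j' b
  have hiso' : IsIso (CS.cE.π.app j') := by
    have : IsIso ((Over.forget S).map (CS.cE.π.app j')) := hiso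
    exact isIso_of_reflects_iso _ (Over.forget S)
  have hiso'' : IsIso ((yon S).map (CS.cE.π.app j')) := inferInstance
  let fj : (yon S).obj (CS.P.E.obj j') ⟶ D.obj i := CS.P.f j'
  have sq1 : IsPullback CS.fst ((yon S).map (CS.cE.π.app j')) (c.π.app i) fj :=
    (CS.isPullback_π j').flip
  have hfs : RepWith @Surjective fj :=
    (RepWith @Surjective).of_isPullback (CS.sq' j').flip hps
  have hfe' : RepWith @Etale fj :=
    (RepWith @Etale).of_isPullback (CS.sq' j').flip hpe
  have : Sheaf.IsLocallySurjective fj := isLocallySurjective_of_etale_surjective _ hfe' hfs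
  exact isIso_of_isPullback_of_isLocallySurjective sq1

end Groth.Agent.H5.AlgSp.Lim
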