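import Groth.Agent.Lib.Helper5.AlgSp.Limits.DescCtx
import Groth.Agent.Lib.Helper5.AlgSp.Limits.EvIso
import Groth.Agent.Lib.Helper5.Lim.DescendIso
import Mathlib
set_option autoImplicit false
universe u
open CategoryTheory CategoryTheory.Limits AlgebraicGeometry

namespace Groth.Agent.H5.AlgSp.Lim
open _root_.AlgSp Groth.Agent.H5.AlgSp Groth.Agent.H5.Lim Groth.Agent.H5.EtSrc

variable {S : Scheme.{u}} {I : Type u} [SmallCategory I] [IsCofiltered I]
  {D : I ⥤ Sp S} {c : Cone D} {i₀ : I} {X₀ Y₀ : Sp S} {f₀ : X₀ ⟶ Y₀} {b₀ : Y₀ ⟶ D.obj i₀}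

lemma repWith_of_isIso (P : MorphismProperty Scheme.{u}) [P.IsStableUnderBaseChange]
    [P.IsMultiplicative] {F G : Sp S} (f : F ⟶ G) [IsIso f] : RepWith P f :=
  MorphismProperty.of_isIso (RepWith (S := S) P) f

/-- Existence of chart data for a representable quasi-compact quasi-separated morphism: the
chart of `X₀ ×_{Y₀} V₀` is an isomorphism. -/
theorem DescCtx.exists_of_representable
    (hDa : ∀ (i j : I) (φ : i ⟶ j), IsAffineMor (D.map φ)) (hc : IsLimit c)
    (hqc : RepWith @QuasiCompact f₀) (hqs : RepWith @QuasiSeparated f₀)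
    (hYqc : IsQuasiCompactSp Y₀) :
    ∃ C : DescCtx D c i₀ f₀ b₀, IsIso C.p := by
  obtain ⟨V₀, v, hV₀, hve, hvs⟩ := exists_affine_chart_of_isQuasiCompactSp hYqc
  have sq := hqc.rep.isPullback v
  obtain ⟨CS⟩ := ChartSystem.exists_of_isAffineMor D hDa c hc i₀ (v ≫ b₀)
  refine ⟨⟨V₀, v, hqc.rep.pullback v, sq.isoPullback.hom, hqc.rep.snd v, hV₀, hve, hvs,
    repWith_of_isIso _ _, repWith_of_isIso _ _, sq.isoPullback_hom_snd,
    hqc.property_snd v, hqs.property v _ _ sq, CS⟩, ?_⟩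
  dsimp only
  infer_instance

variable (C : DescCtx D c i₀ f₀ b₀)

/-- Descent of a property of representable morphisms, fppf local on the target. -/
theorem DescCtx.descend_repWith [IsIso C.p]
    (hDa : ∀ (i j : I) (φ : i ⟶ j), IsAffineMor (D.map φ))
    {P Φ₀ : MorphismProperty Scheme.{u}} [P.IsStableUnderBaseChange]
    [P.IsLocalAtTarget Scheme.fppfPrecoverage] [Φ₀.IsStableUnderBaseChange]
    (H : AffineSystemDescent P (Φ₀ ⊓ (@QuasiCompact ⊓ @QuasiSeparated)))
    (hrep : Representable f₀)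
    {X Y : Sp S} {f : X ⟶ Y} {pY : Y ⟶ Y₀} {qY : Y ⟶ c.pt}
    (hY : IsPullback pY qY b₀ (c.π.app i₀)) {pX : X ⟶ X₀} (hX : IsPullback pX f f₀ pY)
    (hf : RepWith P f) (hf₀ : LocP Φ₀ f₀) :
    ∃ j : Over i₀, ∀ (k : Over i₀) (_ : k ⟶ j) (Xi Yi : Sp S) (fi : Xi ⟶ Yi) (pYi : Yi ⟶ Y₀)
      (qYi : Yi ⟶ D.obj k.left) (_ : IsPullback pYi qYi b₀ (D.map k.hom)) (pXi : Xi ⟶ X₀)
      (_ : IsPullback pXi fi f₀ pYi), RepWith P fi := by
  have : P.RespectsIso := MorphismProperty.IsStableUnderBaseChange.respectsIso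
  obtain ⟨vW, a, pW, -, -, -, -, -, sqp, hpW⟩ := C.exists_limit_charts hY hX
  have : IsIso pW := sqp.isIso_fst_of_isIso
  have h1 : RepWith P (pullback.snd f vW) :=
    (RepWith P).of_isPullback (IsPullback.of_hasPullback f vW) hf
  have h2 : P (pullback.snd C.h₀ C.CS.snd).left := by
    rw [← repWith_yon_map_iff P, ← hpW]
    exact (MorphismProperty.cancel_left_of_respectsIso (RepWith P) pW _).2 h1
  obtain ⟨j, hj⟩ := C.descend hDa H hf₀ h2
  refine ⟨j, fun k ψ Xi Yi fi pYi qYi hYi pXi hXi => ?_⟩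
  obtain ⟨vi, a, pi, hvie, hvis, -, -, -, sqpi, hpi⟩ := C.exists_stage_charts k hYi hXi
  have : IsIso pi := sqpi.isIso_fst_of_isIso
  have h3 := (repWith_yon_map_iff P _).2 (hj k ψ)
  rw [← hpi, MorphismProperty.cancel_left_of_respectsIso (RepWith P) pi] at h3
  have : Sheaf.IsLocallySurjective vi := isLocallySurjective_of_etale_surjective vi hvie hvis
  have hrepi : Representable fi :=
    MorphismProperty.of_isPullback (P := Representable (S := S)) hXi hrep
  exact repWith_of_locallySurjective_baseChange fi hrepi vi _ _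
    (IsPullback.of_hasPullback fi vi) P h3

/-- Descent of isomorphisms, representable case. -/
theorem DescCtx.descend_isIso_of_isIso_p [IsIso C.p]
    (hDa : ∀ (i j : I) (φ : i ⟶ j), IsAffineMor (D.map φ))
    {X Y : Sp S} {f : X ⟶ Y} {pY : Y ⟶ Y₀} {qY : Y ⟶ c.pt}
    (hY : IsPullback pY qY b₀ (c.π.app i₀)) {pX : X ⟶ X₀} (hX : IsPullback pX f f₀ pY)
    [IsIso f] (hf₀ : LocP @LocallyOfFinitePresentation f₀) :
    ∃ j : Over i₀, ∀ (k : Over i₀) (_ : k ⟶ j) (Xi Yi : Sp S) (fi : Xi ⟶ Yi) (pYi : Yi ⟶ Y₀)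
      (qYi : Yi ⟶ D.obj k.left) (_ : IsPullback pYi qYi b₀ (D.map k.hom)) (pXi : Xi ⟶ X₀)
      (_ : IsPullback pXi fi f₀ pYi), IsIso fi := by
  obtain ⟨vW, a, pW, -, -, -, -, -, sqp, hpW⟩ := C.exists_limit_charts hY hX
  have : IsIso pW := sqp.isIso_fst_of_isIso
  have h2 : MorphismProperty.isomorphisms Scheme.{u} (pullback.snd C.h₀ C.CS.snd).left := by
    have : IsIso ((yon S).map (pullback.snd C.h₀ C.CS.snd)) := by
      rw [← hpW]; infer_instance
    have : IsIso (pullback.snd C.h₀ C.CS.snd) := isIso_of_fully_faithful (yon S) _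
    change IsIso ((Over.forget S).map (pullback.snd C.h₀ C.CS.snd))
    infer_instance
  obtain ⟨j, hj⟩ := C.descend hDa affineSystemDescent_isomorphisms hf₀ h2
  refine ⟨j, fun k ψ Xi Yi fi pYi qYi hYi pXi hXi => ?_⟩
  obtain ⟨vi, a, pi, hvie, hvis, -, -, -, sqpi, hpi⟩ := C.exists_stage_charts k hYi hXi
  have : IsIso pi := sqpi.isIso_fst_of_isIso
  have h3 : IsIso (pullback.snd C.h₀ (C.CS.P.q k)).left := hj k ψ
  have h4 : IsIso (pullback.snd C.h₀ (C.CS.P.q k)) := by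
    have : IsIso ((Over.forget S).map (pullback.snd C.h₀ (C.CS.P.q k))) := h3
    exact isIso_of_reflects_iso _ (Over.forget S)
  have h5 : IsIso (pullback.snd fi vi) := by
    have : IsIso (pi ≫ pullback.snd fi vi) := by rw [hpi]; infer_instance
    exact IsIso.of_isIso_comp_left pi _
  have : Sheaf.IsLocallySurjective vi := isLocallySurjective_of_etale_surjective vi hvie hvis
  exact isIso_of_isPullback_of_isLocallySurjective (IsPullback.of_hasPullback fi vi)

end Groth.Agent.H5.AlgSp.Lim
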