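import Groth.Agent.Lib.Helper5.AlgSp.Limits.EvClosedImmSp
import Groth.Agent.Lib.Helper5.AlgSp.Limits.MonoLim
import Groth.Agent.Lib.Helper5.AlgSp.ImmChart
import Groth.Agent.Lib.Helper5.AlgSp.ProdSp
import Groth.Agent.Lib.Helper5.Lim.ImmersionIntoLimit
import Mathlib
set_option autoImplicit false
universe u
open CategoryTheory CategoryTheory.Limits AlgebraicGeometry

namespace Groth.Agent.H5.AlgSp.Lim
open _root_.AlgSp Groth.Agent.H5.AlgSp Groth.Agent.H5.Lim

variable {S : Scheme.{u}} {I : Type u} [SmallCategory I] [IsCofiltered I]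

theorem eventually_immersion_of_limit [QuasiSeparatedSpace ↥S]
    (B : Sp S) (hB : IsAlgSpace B) (D : I ⥤ Sp S) (hD : ∀ i, IsAlgSpace (D.obj i))
    (t : D ⟶ (Functor.const I).obj B)
    (hDa : ∀ (i j : I) (φ : i ⟶ j), IsAffineMor (D.map φ))
    (c : Cone D) (hc : IsLimit c)
    (hqs : ∀ i, IsQuasiSeparatedSp (D.obj i))
    (Y : Sp S) (hY : IsAlgSpace Y) (hYqc : IsQuasiCompactSp Y) (y : Y ⟶ c.pt)
    (hy : RepWith @IsImmersion y) (i₁ : I)
    (hYB : LocP @LocallyOfFiniteType (y ≫ c.π.app i₁ ≫ t.app i₁)) :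
    ∃ i₀ : I, ∀ (i : I) (_ : i ⟶ i₀), RepWith @IsImmersion (y ≫ c.π.app i) := by
  -- an affine chart of `X_{i₁}` covering the image of `Y`
  have hYc : CompactSpace (Points Y) := (isQuasiCompactSp_iff_compactSpace hY).1 hYqc
  have hK : IsCompact (Set.range (Points.map (y ≫ c.π.app i₁))) :=
    isCompact_range (Points.continuous_map _)
  obtain ⟨U₀, p, hU₀, hpe, hpK⟩ := exists_affine_chart_covering (hD i₁) hK
  obtain ⟨CS⟩ := ChartSystem.exists_of_isAffineMor D hDa c hc i₁ p
  have hm : ∀ {j k : Over i₁} (φ : j ⟶ k), IsAffineHom (CS.F.map φ) :=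
    fun φ => CS.isAffineHom_map hDa φ
  have hm' : ∀ (j k : Over i₁) (φ : j ⟶ k), IsAffineHom (CS.F.map φ) :=
    fun _ _ φ => CS.isAffineHom_map hDa φ
  have hA : ∀ j, IsAffine (CS.F.obj j) := fun j => by
    have : IsAffineHom (CS.P.q j).left := CS.isAffineHom_q hDa j
    change IsAffine (CS.P.E.obj j).left
    exact isAffine_of_isAffineHom (CS.P.q j).left
  have hfe : RepWith @Etale CS.fst := (RepWith @Etale).of_isPullback CS.sq.flip hpe
  obtain ⟨W, w, yW, sqW⟩ := hy.1 CS.fst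
  have hw : IsImmersion w.left := hy.2 _ _ _ sqW
  have hUaff : IsAffine CS.cF.pt := Scheme.isAffine_of_isLimit CS.cF CS.hcF
  -- the limit is quasi-separated
  have hXqs : IsQuasiSeparatedSp c.pt := by
    refine isQuasiSeparatedSp_of_isQuasiSeparatedMor (f := c.π.app i₁) ?_ (hqs i₁)
    exact repWith_mono (fun _ _ g hg => by
      have : IsClosedImmersion g := hg
      exact (inferInstance : QuasiCompact g))
      (isSeparatedMor_of_isAffineMor (isAffineMor_π_app D hDa c hc i₁))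
  -- `W` is quasi-compact
  have hUqc : IsQuasiCompactSp ((yon S).obj CS.cE.pt) := by
    rw [isQuasiCompactSp_yon_iff]
    have : IsAffine CS.cE.pt.left := hUaff
    infer_instance
  have hWqc : CompactSpace ↥W.left := by
    rw [← isQuasiCompactSp_yon_iff]
    exact isQuasiCompactMor_of_isQuasiCompactSp hUqc hXqs CS.fst hY hYqc y _ _ sqW.flip
  -- `yW` is surjective on points
  have hyWs : Function.Surjective (Points.map yW) := by
    intro y'
    obtain ⟨u₀, hu₀⟩ := hpK ⟨y', rfl⟩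
    rw [Points.map_comp] at hu₀
    obtain ⟨z, hz1, hz2⟩ := points_pullback_surjective CS.sq (Points.map y y')
      (Points.schemeHomeo U₀ u₀) (by
        rw [← hu₀]; exact (Points.ofPt_eq_map_ofScheme p u₀).symm)
    obtain ⟨z', hz'1, hz'2⟩ := points_pullback_surjective sqW y' z hz1.symm
    exact ⟨z', hz'1⟩
  -- finite type over `U₀`
  have hyWe : RepWith @Etale yW := (RepWith @Etale).of_isPullback sqW.flip hfe
  have h1 : LocP @LocallyOfFiniteType (yW ≫ y ≫ c.π.app i₁ ≫ t.app i₁) := locP_comp_etale hyWe hYB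
  have h2 : yW ≫ y ≫ c.π.app i₁ ≫ t.app i₁ =
      (yon S).map (w ≫ CS.snd) ≫ (p ≫ t.app i₁) := by
    rw [← Category.assoc yW, sqW.w, Category.assoc, ← Category.assoc CS.fst, CS.sq.w,
      Functor.map_comp, Category.assoc, Category.assoc]
  rw [h2] at h1
  have h3 : LocP @LocallyOfFiniteType ((yon S).map (w ≫ CS.snd)) :=
    locP_of_comp (Pc := ⊤) etale_le_lft
      (fun u v huv _ => by
        have : LocallyOfFiniteType (u ≫ v) := huv
        exact locallyOfFiniteType_of_comp u v) hB h1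
      (fun _ _ _ _ _ _ _ _ => trivial)
  have h4 : LocallyOfFiniteType (w ≫ CS.snd).left := locP_yon_map h3
  have h5 : LocallyOfFiniteType (w.left ≫ CS.cF.π.app (Over.mk (𝟙 i₁))) := by
    have h6 : (w ≫ CS.snd).left =
        (w.left ≫ CS.cF.π.app (Over.mk (𝟙 i₁))) ≫ (CS.P.q (Over.mk (𝟙 i₁))).left := by
      rw [← CS.π_q (Over.mk (𝟙 i₁))]
      rfl
    rw [h6] at h4
    exact locallyOfFiniteType_of_comp _ (CS.P.q (Over.mk (𝟙 i₁))).left
  let γ : W.left ⟶ CS.cF.pt := w.left
  have hγ : IsImmersion γ := hw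
  obtain ⟨j, hj⟩ := exists_isImmersion_comp_π CS.F CS.cF CS.hcF (X := W.left) γ
    (Over.mk (𝟙 i₁)) h5
  refine ⟨j.left.left, fun i φ => ?_⟩
  let j'' : Over i₁ := Over.mk (φ ≫ j.left.hom)
  let j' : Over (Over.mk (𝟙 i₁)) :=
    Over.mk (Over.homMk (φ ≫ j.left.hom) (Category.comp_id _) : j'' ⟶ Over.mk (𝟙 i₁))
  have hll : j.hom.left = j.left.hom := by
    have := Over.w j.hom
    simpa using this
  let b : j' ⟶ j := Over.homMk (Over.homMk φ rfl : j'' ⟶ j.left) (by
    apply Over.OverMorphism.ext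
    change φ ≫ j.hom.left = φ ≫ j.left.hom
    rw [hll])
  have hci : IsImmersion (w ≫ CS.cE.π.app j'').left := hj j' b
  let fj : (yon S).obj (CS.P.E.obj j'') ⟶ D.obj i := CS.P.f j''
  have sq1 : IsPullback ((yon S).map w ≫ (yon S).map (CS.cE.π.app j'')) yW fj
      (y ≫ c.π.app i) := sqW.flip.paste_horiz (CS.isPullback_π j'')
  have hfe' : RepWith @Etale fj :=
    (RepWith @Etale).of_isPullback (CS.sq' j'').flip hpe
  refine repWith_isImmersion_of_chart_covering_source hfe' sq1.flip hyWs ?_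
  rw [← Functor.map_comp]
  exact (repWith_yon_map_iff @IsImmersion _).2 hci

end Groth.Agent.H5.AlgSp.Lim
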