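import Groth.Agent.Lib.Helper5.AlgSp.Limits.DescDiag
import Groth.Agent.Lib.Helper5.Lim.BaseChangeOverCat
import Groth.Agent.Lib.Helper5.Lim.BCCat
import Groth.Agent.Lib.Helper5.Lim.SeparatedLimit
import Mathlib
set_option autoImplicit false
universe u
open CategoryTheory CategoryTheory.Limits AlgebraicGeometry

namespace Groth.Agent.H5.AlgSp.Lim
open _root_.AlgSp Groth.Agent.H5.AlgSp Groth.Agent.H5.Lim Groth.Agent.H5.EtSrc

variable {S : Scheme.{u}}

set_option backward.isDefEq.respectTransparency false in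
/-- Separatedness of a composite from a base-change statement for the diagonal (sheaves). -/
lemma isSeparatedMor_of_bc_diagonal {Xj Xk Y : Sp S} (a : Xj ⟶ Xk) (tk : Xk ⟶ Y) (tj : Xj ⟶ Y)
    (h : a ≫ tk = tj) (ha : IsSeparatedMor a)
    (hbc : RepWith @IsClosedImmersion (pullback.snd (pullback.diagonal tk)
      (pullback.lift (pullback.fst tk tj) (pullback.snd tk tj ≫ a)
        (by rw [Category.assoc, h, pullback.condition]) : pullback tk tj ⟶ pullback tk tk))) :
    IsSeparatedMor tj := by
  subst h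
  change RepWith @IsClosedImmersion (pullback.diagonal (a ≫ tk))
  rw [pullback.diagonal_comp]
  refine (RepWith @IsClosedImmersion).comp_mem _ _ ha ?_
  refine (RepWith @IsClosedImmersion).comp_mem _ _ (repWith_of_isIso _ _) ?_
  let θ : pullback (a ≫ tk) (a ≫ tk) ⟶ pullback tk (a ≫ tk) :=
    pullback.lift (pullback.fst _ _ ≫ a) (pullback.snd _ _)
      (by rw [Category.assoc, pullback.condition])
  have e : pullback.map (a ≫ tk) (a ≫ tk) tk tk a a (𝟙 Y) (Category.comp_id _)
      (Category.comp_id _) = θ ≫ pullback.lift (pullback.fst tk (a ≫ tk))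
        (pullback.snd tk (a ≫ tk) ≫ a) (by rw [Category.assoc, pullback.condition]) := by
    apply pullback.hom_ext <;> simp [θ]
  rw [Cat.bc_congr (P := RepWith @IsClosedImmersion) _ e]
  exact Cat.bc_of_comp (P := RepWith @IsClosedImmersion) _ _ _ hbc


variable {I : Type u} [SmallCategory I] [IsCofiltered I]

/-- The limit of a system with affine transition maps is quasi-compact if one stage is. -/
theorem isQuasiCompactSp_limit (D : I ⥤ Sp S)
    (hDa : ∀ (i j : I) (φ : i ⟶ j), IsAffineMor (D.map φ)) (c : Cone D) (hc : IsLimit c) (i₁ : I)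
    (hqc : IsQuasiCompactSp (D.obj i₁)) : IsQuasiCompactSp c.pt := by
  have h1 := repWith_isAffineHom_of_isAffineMor (isAffineMor_π_app D hDa c hc i₁)
  have h2 : RepWith @QuasiCompact (c.π.app i₁) :=
    repWith_mono (fun _ _ f hf => by
      have : IsAffineHom f := hf
      exact (inferInstance : QuasiCompact f)) h1
  exact isQuasiCompactSp_of_isPullback_repWith h2 hqc
    (IsPullback.of_horiz_isIso ⟨by simp⟩ :
      IsPullback (𝟙 c.pt) (c.π.app i₁) (c.π.app i₁) (𝟙 (D.obj i₁)))

lemma isAffineMor_tbcMap (D : I ⥤ Sp S) {Y T : Sp S} (t : D ⟶ (Functor.const I).obj Y)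
    (q : T ⟶ Y) (hDa : ∀ (i j : I) (φ : i ⟶ j), IsAffineMor (D.map φ)) {i j : I} (φ : i ⟶ j) :
    IsAffineMor ((Cat.tbcDiagram D t q).map φ) :=
  isAffineMor_of_isPullback (Cat.isPullback_tbcMap D t q φ).flip (hDa i j φ)

set_option backward.isDefEq.respectTransparency false in
/-- **Eventually separated over the base.** -/
theorem eventually_isSeparatedMor_of_limit [QuasiSeparatedSpace ↥S] (Y : Sp S)
    (D : I ⥤ Sp S) (hD : ∀ i, IsAlgSpace (D.obj i))
    (t : D ⟶ (Functor.const I).obj Y)
    (hDa : ∀ (i j : I) (φ : i ⟶ j), IsAffineMor (D.map φ))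
    (c : Cone D) (hc : IsLimit c) (g : c.pt ⟶ Y) (hg : ∀ i, c.π.app i ≫ t.app i = g)
    (hqc : ∀ i, IsQuasiCompactSp (D.obj i)) (hqs : ∀ i, IsQuasiSeparatedSp (D.obj i))
    (hYqs : IsQuasiSeparatedSp Y) (hX : IsSeparatedMor g) :
    ∃ i₀ : I, ∀ (i : I) (_ : i ⟶ i₀), IsSeparatedMor (t.app i) := by
  obtain ⟨i₁⟩ := IsCofiltered.nonempty (C := I)
  have hXa : IsAlgSpace c.pt := isAlgSpace_limit D hD hDa c hc
  have hXqc : IsQuasiCompactSp c.pt := isQuasiCompactSp_limit D hDa c hc i₁ (hqc i₁)
  -- Step 1: the graph of some projection is a closed immersion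
  let t' : Cat.tbcDiagram D t g ⟶ (Functor.const I).obj c.pt :=
    { app := fun k => pullback.fst g (t.app k)
      naturality := fun j k a => by
        change Cat.tbcMap D t g a ≫ pullback.fst g (t.app k) = pullback.fst g (t.app j) ≫ 𝟙 _
        rw [Cat.tbcMap_fst, Category.comp_id] }
  have hqc' : ∀ k, IsQuasiCompactSp ((Cat.tbcDiagram D t g).obj k) := fun k =>
    isQuasiCompactMor_of_isQuasiCompactSp hXqc hYqs g (hD k) (hqc k) (t.app k) _ _
      (IsPullback.of_hasPullback g (t.app k))
  have hLFT : LocP @LocallyOfFiniteType (pullback.diagonal g ≫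
      (Cat.tbcCone D t g c g hg).π.app i₁ ≫ t'.app i₁) := by
    have : pullback.diagonal g ≫ (Cat.tbcCone D t g c g hg).π.app i₁ ≫ t'.app i₁ = 𝟙 _ := by
      change pullback.diagonal g ≫ Cat.tbcProj D t g c g hg i₁ ≫ pullback.fst g (t.app i₁) = _
      rw [Cat.tbcProj_fst, pullback.diagonal_fst]
    rw [this]
    exact locP_id etale_le_lft _
  obtain ⟨k, hk⟩ := eventually_closedImmersion_of_limit c.pt hXa (Cat.tbcDiagram D t g) t'
    (fun i j φ => isAffineMor_tbcMap D t g hDa φ) (Cat.tbcCone D t g c g hg)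
    (Cat.isLimitTbcCone D t g c g hg hc) hqc' c.pt (pullback.diagonal g) hX i₁ hLFT
  have hG := hk k (𝟙 k)
  -- the graph in the other order
  have hGr : RepWith @IsClosedImmersion (pullback.lift (c.π.app k) (𝟙 c.pt)
      (by rw [hg, Category.id_comp]) : c.pt ⟶ pullback (t.app k) g) := by
    have e : (pullback.lift (c.π.app k) (𝟙 c.pt) (by rw [hg, Category.id_comp]) :
        c.pt ⟶ pullback (t.app k) g) =
        (pullback.diagonal g ≫ (Cat.tbcCone D t g c g hg).π.app k) ≫
          (pullbackSymmetry g (t.app k)).hom := by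
      apply pullback.hom_ext
      · simp only [pullback.lift_fst, Category.assoc, pullbackSymmetry_hom_comp_fst]
        change _ = pullback.diagonal g ≫ Cat.tbcProj D t g c g hg k ≫ pullback.snd g (t.app k)
        rw [Cat.tbcProj_snd, ← Category.assoc, pullback.diagonal_snd, Category.id_comp]
      · simp only [pullback.lift_snd, Category.assoc, pullbackSymmetry_hom_comp_snd]
        change _ = pullback.diagonal g ≫ Cat.tbcProj D t g c g hg k ≫ pullback.fst g (t.app k)
        rw [Cat.tbcProj_fst, pullback.diagonal_fst]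
    rw [e]
    exact (MorphismProperty.cancel_right_of_respectsIso (RepWith @IsClosedImmersion) _ _).2 hG
  -- Step 2: descend along the second variable
  obtain ⟨hrep, hlft, -, h3, -⟩ := repWith_relDiag_of_isAlgSpace (hD k) (t.app k)
  have hgqc : RepWith @QuasiCompact (pullback.diagonal (t.app k)) :=
    repWith_relDiag_of_diag (t.app k) (hqs k)
  have hgqs : RepWith @QuasiSeparated (pullback.diagonal (t.app k)) :=
    repWith_mono (fun _ _ g hg => by have : IsSeparated g := hg; exact (inferInstance :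
      QuasiSeparated g)) h3
  have hZqc : IsQuasiCompactSp (pullback (t.app k) (t.app k)) :=
    isQuasiCompactMor_of_isQuasiCompactSp (hqc k) hYqs (t.app k) (hD k) (hqc k) (t.app k) _ _
      (IsPullback.of_hasPullback _ _)
  have hDa'' : ∀ (i j : I) (φ : i ⟶ j), IsAffineMor ((Cat.tbcDiagram D t (t.app k)).map φ) :=
    fun i j φ => isAffineMor_tbcMap D t (t.app k) hDa φ
  obtain ⟨C, hCp⟩ := DescCtx.exists_of_representable (D := Cat.tbcDiagram D t (t.app k))
    (c := Cat.tbcCone D t (t.app k) c g hg) (i₀ := k) (f₀ := pullback.diagonal (t.app k))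
    (b₀ := 𝟙 _) hDa'' (Cat.isLimitTbcCone D t (t.app k) c g hg hc) hgqc hgqs hZqc
  have hgr := isPullback_graph (t.app k) (c.π.app k) g (hg k)
  obtain ⟨j, hj⟩ := C.descend_repWith hDa'' affineSystemDescent_isClosedImmersion hrep
    (pY := (Cat.tbcCone D t (t.app k) c g hg).π.app k) (qY := 𝟙 _)
    (IsPullback.of_vert_isIso ⟨by simp⟩) hgr hGr (locP_of_repWith etale_le_lft hlft)
  have h4 := hj j (𝟙 j) (pullback (pullback.diagonal (t.app k))
      ((Cat.tbcDiagram D t (t.app k)).map j.hom)) ((Cat.tbcDiagram D t (t.app k)).obj j.left)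
    (pullback.snd _ _) ((Cat.tbcDiagram D t (t.app k)).map j.hom) (𝟙 _)
    (IsPullback.of_vert_isIso ⟨by simp⟩) (pullback.fst _ _) (IsPullback.of_hasPullback _ _)
  have hsepj : IsSeparatedMor (t.app j.left) :=
    isSeparatedMor_of_bc_diagonal (D.map j.hom) (t.app k) (t.app j.left)
      (Cat.t_naturality D t j.hom) (isSeparatedMor_of_isAffineMor (hDa _ _ j.hom)) h4
  refine ⟨j.left, fun i ψ => ?_⟩
  refine isSeparatedMor_of_bc_diagonal (D.map ψ) (t.app j.left) (t.app i)
    (Cat.t_naturality D t ψ) (isSeparatedMor_of_isAffineMor (hDa _ _ ψ)) ?_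
  exact (RepWith @IsClosedImmersion).pullback_snd _ _ hsepj

end Groth.Agent.H5.AlgSp.Lim
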