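import Groth.Agent.Lib.Helper5.AlgSp.Limits.PBSystem
import Groth.Agent.Lib.Helper5.AlgSp.Points
import Mathlib
set_option autoImplicit false
universe u
open CategoryTheory CategoryTheory.Limits AlgebraicGeometry

namespace Groth.Agent.H5.AlgSp.Lim
open _root_.AlgSp Groth.Agent.H5.AlgSp

variable {S : Scheme.{u}} {I : Type u} [SmallCategory I] [IsCofiltered I]

theorem nonempty_points_limit (D : I ⥤ Sp S)
    (hDa : ∀ (i j : I) (φ : i ⟶ j), IsAffineMor (D.map φ))
    (c : Cone D) (hc : IsLimit c)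
    (hqc : ∀ i, IsQuasiCompactSp (D.obj i)) (hne : ∀ i, Nonempty (Points (D.obj i))) :
    Nonempty (Points c.pt) := by
  obtain ⟨i₀⟩ := IsCofiltered.nonempty (C := I)
  obtain ⟨U₀, p, hpe, hps, hU⟩ := hqc i₀
  obtain ⟨CS⟩ := ChartSystem.exists_of_isAffineMor D hDa c hc i₀ p
  have hm : ∀ {j k : Over i₀} (φ : j ⟶ k), IsAffineHom (CS.F.map φ) :=
    fun φ => CS.isAffineHom_map hDa φ
  have hne' : ∀ j, Nonempty (CS.F.obj j) := by
    intro j
    have hs : RepWith @Surjective (CS.P.f j) :=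
      (RepWith @Surjective).of_isPullback (CS.P.sq j).flip hps
    obtain ⟨y⟩ := hne j.left
    obtain ⟨x, -⟩ := points_map_surjective_of_repWith hs y
    exact ⟨(Points.schemeHomeo (CS.P.E.obj j)).symm x⟩
  have hcpt : ∀ j, CompactSpace (CS.F.obj j) := by
    intro j
    have : IsAffineHom (CS.P.q j).left := CS.isAffineHom_q hDa j
    have : CompactSpace ↥U₀.left := hU
    change CompactSpace ↥(CS.P.E.obj j).left
    exact QuasiCompact.compactSpace_of_compactSpace (CS.P.q j).left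
  obtain ⟨x⟩ := Scheme.nonempty_of_isLimit CS.F CS.cF CS.hcF
  exact ⟨Points.ofPt CS.fst x⟩

end Groth.Agent.H5.AlgSp.Lim
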