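import Groth.Agent.Lib.Helper5.AlgSp.Limits.AffineLimit
import Mathlib
set_option autoImplicit false
universe u
open CategoryTheory CategoryTheory.Limits AlgebraicGeometry

namespace Groth.Agent.H5.AlgSp.Lim
open _root_.AlgSp Groth.Agent.H5.AlgSp

variable {S : Scheme.{u}} {J : Type u} [SmallCategory J]

/-- A system of schemes representing the pullbacks of a morphism of diagrams of sheaves
`t : D ⟶ B` along a cone `g` over `B` with apex a scheme `h_T`. -/
structure PBSystem {D B : J ⥤ Sp S} (t : D ⟶ B) {T : Over S}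
    (g : (Functor.const J).obj ((yon S).obj T) ⟶ B) where
  /-- the diagram of schemes -/
  E : J ⥤ Over S
  /-- the structure maps to `T` -/
  q : ∀ j, E.obj j ⟶ T
  /-- the maps to the sheaves -/
  f : ∀ j, (yon S).obj (E.obj j) ⟶ D.obj j
  sq : ∀ j, IsPullback (f j) ((yon S).map (q j)) (t.app j) (g.app j)
  q_nat : ∀ {j k : J} (φ : j ⟶ k), E.map φ ≫ q k = q j
  f_nat : ∀ {j k : J} (φ : j ⟶ k), (yon S).map (E.map φ) ≫ f k = f j ≫ D.map φ

namespace PBSystem

variable {D B : J ⥤ Sp S} {t : D ⟶ B} {T : Over S}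
  {g : (Functor.const J).obj ((yon S).obj T) ⟶ B}

lemma g_nat (g : (Functor.const J).obj ((yon S).obj T) ⟶ B) {j k : J} (φ : j ⟶ k) :
    g.app j ≫ B.map φ = g.app k := by
  have h2 := g.naturality φ
  simpa only [Functor.const_obj_obj, Functor.const_obj_map, Category.id_comp] using h2.symm

/-- Existence of a pullback system when all structure maps are representable. -/
theorem exists_of_representable {D B : J ⥤ Sp S} (t : D ⟶ B)
    {T : Over S} (g : (Functor.const J).obj ((yon S).obj T) ⟶ B)
    (ht : ∀ j, Representable (t.app j)) :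
    Nonempty (PBSystem t g) := by
  choose W q f sq using fun j => ht j (g.app j)
  have tw : ∀ {j k : J} (φ : j ⟶ k),
      (f j ≫ D.map φ) ≫ t.app k = (yon S).map (q j) ≫ g.app k := by
    intro j k φ
    rw [Category.assoc, t.naturality φ, ← Category.assoc, (sq j).w, Category.assoc, g_nat g φ]
  have key : ∀ {j k : J} (φ : j ⟶ k), ∃ w : W j ⟶ W k,
      w ≫ q k = q j ∧ (yon S).map w ≫ f k = f j ≫ D.map φ := by
    intro j k φ
    obtain ⟨w, hw⟩ := (yon S).map_surjective ((sq k).lift _ _ (tw φ))
    refine ⟨w, ?_, ?_⟩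
    · apply (yon S).map_injective
      rw [Functor.map_comp, hw, (sq k).lift_snd]
    · rw [hw, (sq k).lift_fst]
  have uniq : ∀ {k : J} {X : Over S} (a b : X ⟶ W k), a ≫ q k = b ≫ q k →
      (yon S).map a ≫ f k = (yon S).map b ≫ f k → a = b := by
    intro k X a b h1 h2
    apply (yon S).map_injective
    apply (sq k).hom_ext h2
    rw [← Functor.map_comp, ← Functor.map_comp, h1]
  choose w hw1 hw2 using @key
  exact ⟨{
    E :=
      { obj := W
        map := fun φ => w φ
        map_id := fun j => by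
          apply uniq
          · rw [hw1, Category.id_comp]
          · rw [hw2, D.map_id, Category.comp_id]
            erw [(yon S).map_id, Category.id_comp]
        map_comp := fun {i j k} φ ψ => by
          apply uniq
          · rw [hw1, Category.assoc, hw1, hw1]
          · rw [hw2, (yon S).map_comp, Category.assoc, hw2 ψ, ← Category.assoc, hw2 φ,
              Category.assoc, D.map_comp] }
    q := q
    f := f
    sq := sq
    q_nat := fun φ => hw1 φ
    f_nat := fun φ => hw2 φ }⟩

variable (P : PBSystem t g)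

lemma hom_ext {k : J} {X : Over S} (a b : X ⟶ P.E.obj k) (h1 : a ≫ P.q k = b ≫ P.q k)
    (h2 : (yon S).map a ≫ P.f k = (yon S).map b ≫ P.f k) : a = b := by
  apply (yon S).map_injective
  apply (P.sq k).hom_ext h2
  rw [← Functor.map_comp, ← Functor.map_comp, h1]

/-- The cone over `D` with apex `h_W` induced by a cone over `E` with apex `W`. -/
@[simps]
def coneYon (cE : Cone P.E) : Cone D where
  pt := (yon S).obj cE.pt
  π :=
    { app := fun j => (yon S).map (cE.π.app j) ≫ P.f j
      naturality := fun j k φ => by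
        have h1 : cE.π.app j ≫ P.E.map φ = cE.π.app k := cE.w φ
        simp only [Functor.const_obj_obj, Functor.const_obj_map, Category.id_comp]
        rw [Category.assoc, ← P.f_nat, ← Category.assoc, ← Functor.map_comp, h1] }

lemma q_const [IsConnected J] (cE : Cone P.E) (j k : J) :
    cE.π.app j ≫ P.q j = cE.π.app k ≫ P.q k := by
  refine constant_of_preserves_morphisms (fun j => cE.π.app j ≫ P.q j) (fun a b φ => ?_) j k
  have h1 : cE.π.app a ≫ P.E.map φ = cE.π.app b := cE.w φ
  change cE.π.app a ≫ P.q a = cE.π.app b ≫ P.q b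
  rw [← h1, Category.assoc, P.q_nat]

variable {c : Cone D} (hc : IsLimit c)

/-- The map from `h_W` to the limit sheaf. -/
noncomputable def lift (cE : Cone P.E) : (yon S).obj cE.pt ⟶ c.pt := hc.lift (P.coneYon cE)

lemma lift_π (cE : Cone P.E) (j : J) :
    P.lift hc cE ≫ c.π.app j = (yon S).map (cE.π.app j) ≫ P.f j := hc.fac _ j

section Limit

variable {Bl : Sp S} (πB : ∀ j, Bl ⟶ B.obj j)
  (hπB : ∀ {Z : Sp S} (a b : Z ⟶ Bl), (∀ j, a ≫ πB j = b ≫ πB j) → a = b)
  (γ : c.pt ⟶ Bl) (hγ : ∀ j, γ ≫ πB j = c.π.app j ≫ t.app j)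
  (y : (yon S).obj T ⟶ Bl) (hy : ∀ j, y ≫ πB j = g.app j)

include hπB hγ hy in
/-- **A limit of the pullback system represents the pullback of the limit.** -/
theorem isPullback_of_isLimit [IsConnected J] {cE : Cone P.E} (hcE : IsLimit cE) (j₀ : J) :
    IsPullback (P.lift hc cE) ((yon S).map (cE.π.app j₀ ≫ P.q j₀)) γ y := by
  apply isPullback_of_yon
  · apply hπB
    intro j
    rw [Category.assoc, hγ, ← Category.assoc, P.lift_π, Category.assoc, (P.sq j).w,
      ← Category.assoc, ← Functor.map_comp, P.q_const cE j j₀, Category.assoc, hy]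
  · intro T' x y' hxy
    have hxy' : ∀ j, (x ≫ c.π.app j) ≫ t.app j = y' ≫ g.app j := by
      intro j
      rw [Category.assoc, ← hγ, ← Category.assoc, hxy, Category.assoc, hy]
    have hz : ∀ j, ∃ ζ : T' ⟶ P.E.obj j, (yon S).map ζ ≫ P.f j = x ≫ c.π.app j ∧
        (yon S).map (ζ ≫ P.q j) = y' := by
      intro j
      obtain ⟨ζ, hζ⟩ := (yon S).map_surjective ((P.sq j).lift _ _ (hxy' j))
      refine ⟨ζ, ?_, ?_⟩
      · rw [hζ, (P.sq j).lift_fst]
      · rw [Functor.map_comp, hζ, (P.sq j).lift_snd]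
    choose ζ hζ1 hζ2 using hz
    let sT : Cone P.E :=
      { pt := T'
        π := { app := ζ
               naturality := fun j k φ => by
                simp only [Functor.const_obj_obj, Functor.const_obj_map, Category.id_comp]
                apply P.hom_ext
                · apply (yon S).map_injective
                  rw [hζ2, Category.assoc, P.q_nat, hζ2]
                · rw [hζ1, Functor.map_comp, Category.assoc, P.f_nat, ← Category.assoc, hζ1,
                    Category.assoc, c.w] } }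
    have hfac : ∀ j, hcE.lift sT ≫ cE.π.app j = ζ j := fun j => hcE.fac sT j
    refine ⟨(yon S).map (hcE.lift sT), ⟨?_, ?_⟩, ?_⟩
    · apply hc.hom_ext
      intro j
      rw [Category.assoc, P.lift_π, ← Category.assoc, ← Functor.map_comp, hfac, hζ1]
    · rw [← Functor.map_comp, ← Category.assoc, hfac, hζ2]
    · rintro z ⟨hz1, hz2⟩
      obtain ⟨ζ', rfl⟩ := (yon S).map_surjective z
      congr 1
      apply hcE.hom_ext
      intro j
      rw [hfac]
      apply P.hom_ext
      · apply (yon S).map_injective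
        rw [hζ2, Category.assoc, P.q_const cE j j₀, ← Category.assoc, ← hz2, ← Functor.map_comp,
          Category.assoc]
      · rw [hζ1, ← hz1, Category.assoc, P.lift_π, ← Category.assoc, ← Functor.map_comp]

variable [IsConnected J] {W : Over S} {qW : W ⟶ T} {fst : (yon S).obj W ⟶ c.pt}
  (sqW : IsPullback fst ((yon S).map qW) γ y)

include sqW hγ hy in
lemma exists_cone_of_isPullback :
    ∃ π : ∀ j, W ⟶ P.E.obj j, (∀ j, π j ≫ P.q j = qW) ∧
      (∀ j, (yon S).map (π j) ≫ P.f j = fst ≫ c.π.app j) ∧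
      ∀ {j k : J} (φ : j ⟶ k), π j ≫ P.E.map φ = π k := by
  have hw : ∀ j, (fst ≫ c.π.app j) ≫ t.app j = (yon S).map qW ≫ g.app j := by
    intro j
    rw [Category.assoc, ← hγ, ← Category.assoc, sqW.w, Category.assoc, hy]
  have hz : ∀ j, ∃ ζ : W ⟶ P.E.obj j, ζ ≫ P.q j = qW ∧
      (yon S).map ζ ≫ P.f j = fst ≫ c.π.app j := by
    intro j
    obtain ⟨ζ, hζ⟩ := (yon S).map_surjective ((P.sq j).lift _ _ (hw j))
    refine ⟨ζ, ?_, ?_⟩
    · apply (yon S).map_injective
      rw [Functor.map_comp, hζ, (P.sq j).lift_snd]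
    · rw [hζ, (P.sq j).lift_fst]
  choose ζ hζ1 hζ2 using hz
  refine ⟨ζ, hζ1, hζ2, fun {j k} φ => ?_⟩
  apply P.hom_ext
  · rw [Category.assoc, P.q_nat, hζ1, hζ1]
  · rw [Functor.map_comp, Category.assoc, P.f_nat, ← Category.assoc, hζ2, Category.assoc, c.w, hζ2]

include sqW hc hπB hγ hy in
/-- **A scheme representing the pullback of the limit is a limit of the pullback system.** -/
theorem exists_isLimit_of_isPullback :
    ∃ cE : Cone P.E, cE.pt = W ∧ Nonempty (IsLimit cE) ∧
      ∃ e : cE.pt ≅ W, (∀ j, cE.π.app j ≫ P.q j = e.hom ≫ qW) ∧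
        (∀ j, (yon S).map (cE.π.app j) ≫ P.f j = (yon S).map e.hom ≫ fst ≫ c.π.app j) := by
  obtain ⟨j₀⟩ := (inferInstance : Nonempty J)
  obtain ⟨π, hπ1, hπ2, hπ3⟩ := P.exists_cone_of_isPullback πB γ hγ y hy sqW
  let cE : Cone P.E :=
    { pt := W
      π := { app := π
             naturality := fun j k φ => by
              simp only [Functor.const_obj_obj, Functor.const_obj_map, Category.id_comp]
              exact (hπ3 φ).symm } }
  refine ⟨cE, rfl, ⟨?_⟩, Iso.refl _, fun j => ?_, fun j => ?_⟩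
  · -- the limit property
    have hlift : ∀ s : Cone P.E, ∃ m : s.pt ⟶ W, (yon S).map m ≫ fst = P.lift hc s ∧
        m ≫ qW = s.π.app j₀ ≫ P.q j₀ := by
      intro s
      have hw : P.lift hc s ≫ γ = (yon S).map (s.π.app j₀ ≫ P.q j₀) ≫ y := by
        apply hπB
        intro j
        rw [Category.assoc, hγ, ← Category.assoc, P.lift_π, Category.assoc, (P.sq j).w,
          ← Category.assoc, ← Functor.map_comp, P.q_const s j j₀, Category.assoc, hy]
      obtain ⟨m, hm⟩ := (yon S).map_surjective (sqW.lift _ _ hw)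
      refine ⟨m, ?_, ?_⟩
      · rw [hm, sqW.lift_fst]
      · apply (yon S).map_injective
        rw [Functor.map_comp, hm, sqW.lift_snd]
    choose m hm1 hm2 using hlift
    refine
      { lift := m
        fac := fun s j => ?_
        uniq := fun s m' hm' => ?_ }
    · change m s ≫ π j = s.π.app j
      apply P.hom_ext
      · rw [Category.assoc, hπ1, hm2, P.q_const s j₀ j]
      · rw [Functor.map_comp, Category.assoc, hπ2, ← Category.assoc, hm1, P.lift_π]
    · apply (yon S).map_injective
      apply sqW.hom_ext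
      · rw [hm1]
        apply hc.hom_ext
        intro j
        rw [Category.assoc, ← hπ2, P.lift_π, ← Category.assoc, ← Functor.map_comp]
        congr 2
        exact hm' j
      · rw [← Functor.map_comp, ← Functor.map_comp, hm2, ← hπ1 j₀, ← Category.assoc]
        congr 2
        exact hm' j₀
  · change π j ≫ P.q j = 𝟙 W ≫ qW
    rw [hπ1, Category.id_comp]
  · change (yon S).map (π j) ≫ P.f j = (yon S).map (𝟙 W) ≫ fst ≫ c.π.app j
    rw [hπ2]
    erw [(yon S).map_id, Category.id_comp]

end Limit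

end PBSystem

end Groth.Agent.H5.AlgSp.Lim

namespace Groth.Agent.H5.AlgSp.Lim
open _root_.AlgSp Groth.Agent.H5.AlgSp

variable {S : Scheme.{u}} {I : Type u} [SmallCategory I]

/-- The structure maps of the diagram over `i₀` to `D.obj i₀`. -/
@[simps]
def overTrans (D : I ⥤ Sp S) (i₀ : I) :
    Over.forget i₀ ⋙ D ⟶ (Functor.const (Over i₀)).obj (D.obj i₀) where
  app := fun j => D.map j.hom
  naturality := fun j k φ => by
    simp only [Functor.comp_obj, Over.forget_obj, Functor.const_obj_obj, Functor.comp_map,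
      Over.forget_map, Functor.const_obj_map, Category.comp_id]
    rw [← D.map_comp, Over.w]

/-- A chart system: the base change of a cofiltered system of sheaves (with its limit) along a
map from a scheme `T` to the stage `i₀`. -/
structure ChartSystem (D : I ⥤ Sp S) (c : Cone D) (i₀ : I) {T : Over S}
    (g : (yon S).obj T ⟶ D.obj i₀) where
  /-- the pullback system -/
  P : PBSystem (overTrans D i₀) ((Functor.const (Over i₀)).map g)
  /-- the limit cone of schemes -/
  cE : Cone P.E
  /-- it is a limit -/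
  hcE : IsLimit cE
  /-- the map to the limit sheaf -/
  fst : (yon S).obj cE.pt ⟶ c.pt
  /-- the map to `T` -/
  snd : cE.pt ⟶ T
  sq : IsPullback fst ((yon S).map snd) (c.π.app i₀) g
  fst_π : ∀ j : Over i₀, fst ≫ c.π.app j.left = (yon S).map (cE.π.app j) ≫ P.f j
  π_q : ∀ j : Over i₀, cE.π.app j ≫ P.q j = snd

variable [IsCofiltered I]

theorem ChartSystem.exists_of_isAffineMor (D : I ⥤ Sp S)
    (hDa : ∀ (i j : I) (φ : i ⟶ j), IsAffineMor (D.map φ)) (c : Cone D) (hc : IsLimit c) (i₀ : I)
    {T : Over S} (g : (yon S).obj T ⟶ D.obj i₀) : Nonempty (ChartSystem D c i₀ g) := by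
  have : IsConnected (Over i₀) := IsFiltered.isConnected (Over i₀)
  obtain ⟨P⟩ := PBSystem.exists_of_representable (overTrans D i₀)
    ((Functor.const (Over i₀)).map g)
    (fun j => (repWith_isAffineHom_of_isAffineMor (hDa _ _ _)).1)
  have hc' : IsLimit (c.whisker (Over.forget i₀)) :=
    (Functor.Initial.isLimitWhiskerEquiv (Over.forget i₀) c).symm hc
  have hrep := (repWith_isAffineHom_of_isAffineMor (isAffineMor_π_app D hDa c hc i₀)).1
  obtain ⟨W, qW, fst, sqW⟩ := hrep g
  obtain ⟨cE, -, ⟨hcE⟩, e, h1, h2⟩ := P.exists_isLimit_of_isPullback hc'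
    (Bl := D.obj i₀) (fun _ => 𝟙 _)
    (fun a b h => by simpa using h (Over.mk (𝟙 i₀))) (c.π.app i₀)
    (fun j => by simp) g (fun j => by simp) sqW
  refine ⟨{
    P := P
    cE := cE
    hcE := hcE
    fst := (yon S).map e.hom ≫ fst
    snd := e.hom ≫ qW
    sq := ?_
    fst_π := fun j => ?_
    π_q := fun j => h1 j }⟩
  · rw [Functor.map_comp]
    exact IsPullback.of_iso sqW ((yon S).mapIso e.symm) (Iso.refl _) (Iso.refl _) (Iso.refl _)
      (by simp [← Functor.map_comp_assoc]) (by simp [← Functor.map_comp_assoc]) (by simp) (by simp)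
  · rw [Category.assoc]
    exact (h2 j).symm

variable {D : I ⥤ Sp S} {c : Cone D} {i₀ : I} {T : Over S} {g : (yon S).obj T ⟶ D.obj i₀}

namespace ChartSystem

variable (CS : ChartSystem D c i₀ g)

/-- The stage squares. -/
lemma sq' (j : Over i₀) :
    IsPullback (CS.P.f j) ((yon S).map (CS.P.q j)) (D.map j.hom) g := CS.P.sq j

/-- The underlying diagram of schemes. -/
abbrev F : Over i₀ ⥤ Scheme.{u} := CS.P.E ⋙ Over.forget S

/-- The underlying cone of schemes. -/
abbrev cF : Cone CS.F := (Over.forget S).mapCone CS.cE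

/-- The underlying cone of schemes is a limit cone. -/
noncomputable def hcF : IsLimit CS.cF :=
  have : IsConnected (Over i₀) := IsFiltered.isConnected (Over i₀)
  isLimitOfPreserves (Over.forget S) CS.hcE

/-- The chart of the limit is the base change of the chart at stage `j`. -/
lemma isPullback_π (j : Over i₀) :
    IsPullback ((yon S).map (CS.cE.π.app j)) CS.fst (CS.P.f j) (c.π.app j.left) := by
  have h1 : IsPullback ((yon S).map (CS.P.q j)) (CS.P.f j) g (D.map j.hom) := (CS.sq' j).flip
  have h2 : IsPullback ((yon S).map (CS.cE.π.app j) ≫ (yon S).map (CS.P.q j)) CS.fst g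
      (c.π.app j.left ≫ D.map j.hom) := by
    rw [← Functor.map_comp, CS.π_q, c.w]
    exact CS.sq.flip
  exact IsPullback.of_right h2 (CS.fst_π j).symm h1

/-- The transition squares are pullbacks. -/
lemma isPullback_map {j k : Over i₀} (φ : j ⟶ k) :
    IsPullback ((yon S).map (CS.P.E.map φ)) (CS.P.f j) (CS.P.f k) (D.map φ.left) := by
  have h1 : IsPullback ((yon S).map (CS.P.q k)) (CS.P.f k) g (D.map k.hom) := (CS.sq' k).flip
  have e1 : (yon S).map (CS.P.E.map φ) ≫ (yon S).map (CS.P.q k) = (yon S).map (CS.P.q j) := by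
    rw [← Functor.map_comp, CS.P.q_nat]
  have e2 : (D.map φ.left ≫ D.map k.hom : D.obj j.left ⟶ D.obj i₀) = D.map j.hom := by
    rw [← D.map_comp, Over.w]
  have h2 : IsPullback ((yon S).map (CS.P.E.map φ) ≫ (yon S).map (CS.P.q k)) (CS.P.f j) g
      (D.map φ.left ≫ D.map k.hom : D.obj j.left ⟶ D.obj i₀) := by
    rw [e1, e2]
    exact (CS.sq' j).flip
  exact IsPullback.of_right h2 (CS.P.f_nat φ) h1

variable (hDa : ∀ (i j : I) (φ : i ⟶ j), IsAffineMor (D.map φ))
include hDa

lemma isAffineHom_q (j : Over i₀) : IsAffineHom (CS.P.q j).left :=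
  (repWith_isAffineHom_of_isAffineMor (hDa _ _ j.hom)).2 _ _ _ (CS.sq' j)

lemma isAffineHom_map {j k : Over i₀} (φ : j ⟶ k) : IsAffineHom (CS.F.map φ) := by
  have h1 := CS.isAffineHom_q hDa j
  have h2 := CS.isAffineHom_q hDa k
  have h3 : (CS.P.E.map φ).left ≫ (CS.P.q k).left = (CS.P.q j).left := by
    rw [← Over.comp_left, CS.P.q_nat]
  rw [← h3] at h1
  exact (IsAffineHom.comp_iff (f := (CS.P.E.map φ).left) (g := (CS.P.q k).left)).1 h1

lemma isAffineHom_snd : IsAffineHom CS.snd.left := by
  have h2 := CS.isAffineHom_q hDa (Over.mk (𝟙 i₀))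
  have hm : ∀ {j k : Over i₀} (φ : j ⟶ k), IsAffineHom (CS.F.map φ) :=
    fun φ => CS.isAffineHom_map hDa φ
  have h1 : IsAffineHom (CS.cF.π.app (Over.mk (𝟙 i₀))) := isAffineHom_π_app CS.F CS.cF CS.hcF _
  have h3 : CS.cF.π.app (Over.mk (𝟙 i₀)) ≫ (CS.P.q (Over.mk (𝟙 i₀))).left = CS.snd.left := by
    change (CS.cE.π.app _).left ≫ _ = _
    rw [← Over.comp_left, CS.π_q]
  rw [← h3]
  exact MorphismProperty.comp_mem _ _ _ h1 h2

end ChartSystem

end Groth.Agent.H5.AlgSp.Lim
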