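import Groth.Agent.Lib.Helper5.AlgSp.Limits.PBSystem
import Groth.Agent.Lib.Helper5.AlgSp.ImmersionDense
import Groth.Prelude.Def_AlgSpSub
import Mathlib
set_option autoImplicit false
universe u
open CategoryTheory CategoryTheory.Limits AlgebraicGeometry

namespace Groth.Agent.H5.AlgSp.Lim

variable {J : Type u} [Category.{u} J] [IsCofiltered J] (D : J ⥤ Scheme.{u}) (c : Cone D)
  (hc : IsLimit c)

include hc in
/-- A cofiltered limit of reduced affine schemes is reduced. -/
lemma isReduced_of_isLimit_of_isAffine [∀ j, IsAffine (D.obj j)] [∀ j, IsReduced (D.obj j)] :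
    IsReduced c.pt := by
  have : IsAffine c.pt := Scheme.isAffine_of_isLimit c hc
  have : _root_.IsReduced Γ(c.pt, ⊤) := by
    constructor
    rintro s ⟨n, hn⟩
    obtain ⟨j, t, rfl⟩ := exists_appTop_π_eq_of_isAffine_of_isLimit D c hc s
    have h0 : (c.π.app j).appTop (t ^ n) = 0 := by rw [map_pow]; exact hn
    obtain ⟨k, f, hk⟩ := exists_appTop_map_eq_zero_of_isAffine_of_isLimit D c hc j (t ^ n) h0
    rw [map_pow] at hk
    have h1 : (D.map f).appTop t = 0 := IsNilpotent.eq_zero ⟨n, hk⟩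
    have h2 : (c.π.app j).appTop t = (c.π.app k).appTop ((D.map f).appTop t) := by
      rw [← c.w f, Scheme.Hom.comp_appTop]
      rfl
    rw [h2, h1, map_zero]
  exact isReduced_of_isAffine_isReduced c.pt

include hc in
/-- A cofiltered limit of reduced schemes with affine transition maps is reduced. -/
theorem isReduced_of_isLimit [∀ {i j} (f : i ⟶ j), IsAffineHom (D.map f)]
    [∀ j, IsReduced (D.obj j)] : IsReduced c.pt := by
  obtain ⟨j₀⟩ := IsCofiltered.nonempty (C := J)
  have key : ∀ V : (D.obj j₀).affineOpens, IsReduced (c.π.app j₀ ⁻¹ᵁ V.1).toScheme := by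
    intro V
    have h1 : ∀ j, IsAffine ((opensDiagram D j₀ V.1).obj j) := fun j => V.2.preimage _
    have h2 : ∀ j, IsReduced ((opensDiagram D j₀ V.1).obj j) := fun j =>
      inferInstanceAs (IsReduced (D.map j.hom ⁻¹ᵁ V.1).toScheme)
    exact isReduced_of_isLimit_of_isAffine _ _ (isLimitOpensCone D c hc j₀ V.1)
  have hcov : TopologicalSpace.IsOpenCover
      (fun V : (D.obj j₀).affineOpens => c.π.app j₀ ⁻¹ᵁ V.1) := by
    rw [TopologicalSpace.IsOpenCover, ← Scheme.Hom.preimage_iSup, iSup_affineOpens_eq_top]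
    rfl
  have : ∀ i, IsReduced ((c.pt.openCoverOfIsOpenCover _ hcov).X i) := key
  exact IsReduced.of_openCover _ (c.pt.openCoverOfIsOpenCover _ hcov)

end Groth.Agent.H5.AlgSp.Lim

namespace Groth.Agent.H5.AlgSp.Lim
open _root_.AlgSp Groth.Agent.H5.AlgSp

variable {S : Scheme.{u}} {I : Type u} [SmallCategory I] [IsCofiltered I]

theorem isReducedSp_limit (D : I ⥤ Sp S) (hD : ∀ i, IsAlgSpace (D.obj i))
    (hDa : ∀ (i j : I) (φ : i ⟶ j), IsAffineMor (D.map φ))
    (c : Cone D) (hc : IsLimit c) (hred : ∀ i, IsReducedSp (D.obj i)) : IsReducedSp c.pt := by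
  obtain ⟨i₀⟩ := IsCofiltered.nonempty (C := I)
  obtain ⟨U₀, p, hpe, hps⟩ := (hD i₀).atlas
  obtain ⟨CS⟩ := ChartSystem.exists_of_isAffineMor D hDa c hc i₀ p
  have hm : ∀ {j k : Over i₀} (φ : j ⟶ k), IsAffineHom (CS.F.map φ) :=
    fun φ => CS.isAffineHom_map hDa φ
  have hr : ∀ j, IsReduced (CS.F.obj j) := fun j =>
    isReduced_of_etale_of_isReducedSp (hred j.left) (CS.P.f j)
      ((RepWith @Etale).of_isPullback (CS.P.sq j).flip hpe)
  have : IsReduced CS.cF.pt := isReduced_of_isLimit CS.F CS.cF CS.hcF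
  exact ⟨CS.cE.pt, CS.fst, (RepWith @Etale).of_isPullback CS.sq.flip hpe,
    (RepWith @Surjective).of_isPullback CS.sq.flip hps, this⟩

end Groth.Agent.H5.AlgSp.Lim
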