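import Groth.Agent.Lib.Helper5.AlgSp.Limits.EvSeparated
import Mathlib
set_option autoImplicit false
universe u
open CategoryTheory CategoryTheory.Limits AlgebraicGeometry

namespace Groth.Agent.H5.AlgSp.Lim
open _root_.AlgSp Groth.Agent.H5.AlgSp Groth.Agent.H5.Lim

variable {S : Scheme.{u}}

/-- The absolute diagonal is the relative diagonal over the terminal sheaf. -/
theorem repWith_diag_iff_terminal (P : MorphismProperty Scheme.{u}) [P.IsStableUnderBaseChange]
    (F : Sp S) :
    RepWith P (Limits.diag F) ↔ RepWith P (pullback.diagonal (terminal.from F)) := by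
  have : P.RespectsIso := MorphismProperty.IsStableUnderBaseChange.respectsIso
  have sqP := IsPullback.of_hasBinaryProduct' F F
  have e : pullback.diagonal (terminal.from F) = Limits.diag F ≫ sqP.isoPullback.hom := by
    apply pullback.hom_ext
    · rw [pullback.diagonal_fst, Category.assoc, sqP.isoPullback_hom_fst, Limits.diag,
        prod.lift_fst]
    · rw [pullback.diagonal_snd, Category.assoc, sqP.isoPullback_hom_snd, Limits.diag,
        prod.lift_snd]
  rw [e]
  exact (MorphismProperty.cancel_right_of_respectsIso (RepWith P) _ _).symm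

theorem isQuasiSeparatedSp_terminal : IsQuasiSeparatedSp (⊤_ (Sp S)) := by
  have : IsIso (Limits.diag (⊤_ (Sp S))) := by
    refine ⟨prod.fst, ?_, ?_⟩
    · rw [Limits.diag, prod.lift_fst]
    · apply Limits.prod.hom_ext <;> apply Subsingleton.elim
  exact repWith_of_isIso _ _

end Groth.Agent.H5.AlgSp.Lim
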